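import Groth.Agent.DepthTwist.IdealPow
import Groth.Agent.S10945
import Groth.Agent.ParShLib.ResStalk
import Groth.Prelude.Def_Lef

/-!
# Connectedness and the Lefschetz condition
-/

set_option linter.style.haveILetI false
set_option linter.unusedSectionVars false
set_option backward.isDefEq.respectTransparency false
set_option backward.isDefEq.respectTransparency.types false

universe u

open CategoryTheory CategoryTheory.Limits AlgebraicGeometry TopologicalSpace Opposite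

noncomputable section

namespace Groth.Agent.LefLib

open Groth.Agent

variable {U : Scheme.{u}}

/-- The quotient maps commute with the projections from the structure sheaf. -/
theorem toSubscheme_quotMap {I J : U.IdealSheafData} (h : I ≤ J) :
    ClSub.toSubscheme I ≫ Lef.quotMap h = ClSub.toSubscheme J := by
  refine S10945.hom_ext_top ?_
  show (Lef.quotMap h).app ⊤ ((ClSub.toSubscheme I).app ⊤ (1 : Γ(U, ⊤))) = (ClSub.toSubscheme J).app ⊤ (1 : Γ(U, ⊤))
  have hI : (ClSub.toSubscheme I).app ⊤ (1 : Γ(U, ⊤)) = (1 : Γ(I.subscheme, I.subschemeι ⁻¹ᵁ ⊤)) :=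
    map_one (I.subschemeι.app ⊤).hom
  have hJ : (ClSub.toSubscheme J).app ⊤ (1 : Γ(U, ⊤)) = (1 : Γ(J.subscheme, J.subschemeι ⁻¹ᵁ ⊤)) :=
    map_one (J.subschemeι.app ⊤).hom
  rw [hI, hJ]
  change (J.subscheme.presheaf.map _).hom
    (((Scheme.IdealSheafData.inclusion h).app (I.subschemeι ⁻¹ᵁ ⊤)).hom 1) = 1
  rw [map_one]
  exact map_one _

theorem one_comp {M N : U.Modules} (a : Coh.structureModule U ⟶ M) (g : M ⟶ N) :
    InvX.one (a ≫ g) = g.app ⊤ (InvX.one a) := rfl

variable (𝓙 : U.IdealSheafData)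

/-- The reduction of a function modulo `𝓙^{n+1}`. -/
abbrev red (n : ℕ) (V : U.Opens) (r : Γ(U, V)) : Γ(ClSub.quotMod (𝓙 ^ (n + 1)), V) :=
  (ClSub.toSubscheme (𝓙 ^ (n + 1))).app V r

theorem subsingleton_stalk (n : ℕ) {x : U} (hx : x ∉ 𝓙.support) :
    Subsingleton ((ClSub.quotMod (𝓙 ^ (n + 1))).presheaf.stalk x) :=
  ParShLib.subsingleton_stalk_quotMod (𝓙 ^ (n + 1)) (by rw [Scheme.IdealSheafData.support_pow_succ]; exact hx)

/-- A function reduced to zero at a point of the closed subscheme is not a unit there. -/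
theorem not_isUnit_germ (n : ℕ) {x : U} (hx : x ∈ 𝓙.support) {V : U.Opens} (hV : x ∈ V) (r : Γ(U, V))
    (h : (ClSub.quotMod (𝓙 ^ (n + 1))).presheaf.germ V x hV (red 𝓙 n V r) = 0) :
    ¬ IsUnit (U.presheaf.germ V x hV r) := by
  let D := 𝓙 ^ (n + 1)
  have hxD : x ∈ D.support := by rw [Scheme.IdealSheafData.support_pow_succ]; exact hx
  obtain ⟨_, ⟨W, hW, rfl⟩, hxW, -⟩ := U.isBasis_affineOpens.exists_subset_of_mem_open
    (Set.mem_univ x) isOpen_univ
  intro hu
  have hS := (IntSym.shortExact_toSubscheme D).map_of_exact (DerSch.stalkFunctor U x)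
  have h0 : (DerSch.stalkFunctor U x).map (ClSub.toSubscheme D) (U.presheaf.germ V x hV r • H23.UnitSec.one x) = 0 := by
    rw [H23.UnitSec.germ_smul_one]
    exact (DerSch.stalkFunctor_map_germ x (ClSub.toSubscheme D) V hV _).trans h
  obtain ⟨w, hw⟩ := (ShortComplex.moduleCat_exact_iff _).1 hS.exact _ h0
  have hmem : U.presheaf.germ V x hV r • H23.UnitSec.one x ∈ DepthTwist.stI D ⟨W, hW⟩ hxW •
      (⊤ : Submodule (U.presheaf.stalk x) ((DerSch.stalkFunctor U x).obj (Coh.structureModule U))) :=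
    (DepthTwist.range_idealModι D ⟨W, hW⟩ hxW).le ⟨w, hw⟩
  rw [← H23.UnitSec.span_one x, Submodule.mem_smul_span_singleton] at hmem
  obtain ⟨a, ha, hab⟩ := hmem
  have ha' : a = U.presheaf.germ V x hV r := by
    rw [← sub_eq_zero]
    exact H23.UnitSec.eq_zero_of_smul_one _ (by rw [sub_smul, hab, sub_self])
  have hle : DepthTwist.stI D ⟨W, hW⟩ hxW ≤ IsLocalRing.maximalIdeal (U.presheaf.stalk x) := by
    refine Ideal.map_le_iff_le_comap.2 fun b hb => ?_
    have hz := (U.mem_zeroLocus_iff _ _).1 ((D.coe_support_inter ⟨W, hW⟩).le ⟨hxD, hxW⟩).1 b hb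
    rw [Ideal.mem_comap, IsLocalRing.mem_maximalIdeal]
    exact fun hu' => hz ((U.mem_basicOpen b x hxW).2 hu')
  exact (IsLocalRing.mem_maximalIdeal _).1 (hle ha) (ha' ▸ hu)

theorem isFinLocFree_structureModule : FlatMod.IsFinLocFree (Coh.structureModule U) := fun x =>
  let ⟨W, hx, e⟩ := InvEnd.isFinLocFreeOfRank_one InvX.isInvertible_structureModule x
  ⟨W, 1, hx, e⟩

/-- A module with no stalks on the overlap of two covering opens is glued from global sections. -/
theorem exists_glue {Q : U.Modules} {P P' : U.Opens} (hcov : ∀ z, z ∈ P ∨ z ∈ P')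
    (a b : Γ(Q, ⊤)) (h : ∀ z, z ∈ P → z ∈ P' → Q.presheaf.germ ⊤ z trivial a = Q.presheaf.germ ⊤ z trivial b) :
    ∃ q : Γ(Q, ⊤), (∀ z, z ∈ P → Q.presheaf.germ ⊤ z trivial q = Q.presheaf.germ ⊤ z trivial a) ∧
      ∀ z, z ∈ P' → Q.presheaf.germ ⊤ z trivial q = Q.presheaf.germ ⊤ z trivial b := by
  let Us : Bool → U.Opens := fun i => cond i P P'
  let sf : ∀ i, Γ(Q, Us i) := fun i => AModX.res Q le_top (cond i a b)
  obtain ⟨q, hq, -⟩ := TopCat.Sheaf.existsUnique_gluing' ⟨Q.presheaf, Q.isSheaf⟩ Us ⊤ (fun i => homOfLE le_top)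
    (fun z _ => by
      rcases hcov z with hz | hz
      · exact Opens.mem_iSup.2 ⟨true, hz⟩
      · exact Opens.mem_iSup.2 ⟨false, hz⟩) sf (fun i j => by
      refine TopCat.Presheaf.section_ext ⟨Q.presheaf, Q.isSheaf⟩ _ _ _ fun z hz => ?_
      show Q.presheaf.germ _ z hz _ = Q.presheaf.germ _ z hz _
      rw [TopCat.Presheaf.germ_res_apply, TopCat.Presheaf.germ_res_apply]
      simp only [sf, AModX.res]
      rw [TopCat.Presheaf.germ_res_apply, TopCat.Presheaf.germ_res_apply]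
      cases i <;> cases j
      · rfl
      · exact (h z hz.2 hz.1).symm
      · exact h z hz.1 hz.2
      · rfl)
  have heval : ∀ (i : Bool) (z : U), z ∈ Us i → Q.presheaf.germ ⊤ z trivial q =
      Q.presheaf.germ ⊤ z trivial (cond i a b) := fun i z hz => by
    have h := congrArg (Q.presheaf.germ (Us i) z hz).hom (hq i)
    simp only [sf, AModX.res] at h
    erw [TopCat.Presheaf.germ_res_apply, TopCat.Presheaf.germ_res_apply] at h
    exact h
  exact ⟨q, heval true, heval false⟩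

theorem germ_app {M N : U.Modules} (f : M ⟶ N) {z : U} (s : Γ(M, ⊤)) :
    N.presheaf.germ ⊤ z trivial (f.app ⊤ s) =
      (DerSch.stalkFunctor U z).map f (M.presheaf.germ ⊤ z trivial s) :=
  (DerSch.stalkFunctor_map_germ z f ⊤ trivial s).symm

theorem eq_of_germ {M : U.Modules} {s t : Γ(M, ⊤)}
    (h : ∀ z : U, M.presheaf.germ ⊤ z trivial s = M.presheaf.germ ⊤ z trivial t) : s = t :=
  TopCat.Presheaf.section_ext ⟨M.presheaf, M.isSheaf⟩ _ _ _ fun z _ => h z

variable {𝓙}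

theorem red_injective (h : Lef.HomToFormalBijective 𝓙 (Coh.structureModule U)) (f g : Γ(U, ⊤))
    (he : ∀ n, red 𝓙 n ⊤ f = red 𝓙 n ⊤ g) : f = g := by
  have h1 := h.1 (InvX.ofSect (M := Coh.structureModule U) f) (InvX.ofSect (M := Coh.structureModule U) g)
    fun n => S10945.hom_ext_top (by
      show (ClSub.toSubscheme _).app ⊤ (InvX.one (InvX.ofSect (M := Coh.structureModule U) f)) =
        (ClSub.toSubscheme _).app ⊤ (InvX.one (InvX.ofSect (M := Coh.structureModule U) g))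
      rw [InvX.one_ofSect, InvX.one_ofSect]
      exact he n)
  have h2 := congrArg InvX.one h1
  rwa [InvX.one_ofSect, InvX.one_ofSect] at h2

theorem red_surjective (h : Lef.HomToFormalBijective 𝓙 (Coh.structureModule U))
    (y : ∀ n, Γ(ClSub.quotMod (𝓙 ^ (n + 1)), ⊤))
    (hy : ∀ n, (Lef.quotMap (I := 𝓙 ^ (n + 1 + 1)) (J := 𝓙 ^ (n + 1)) (Lef.pow_succ_le 𝓙 n)).app ⊤ (y (n + 1)) = y n) :
    ∃ f : Γ(U, ⊤), ∀ n, red 𝓙 n ⊤ f = y n := by
  let Q : ℕ → U.Modules := fun n => ClSub.quotMod (𝓙 ^ (n + 1))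
  obtain ⟨φ, hφ⟩ := h.2 (fun n => InvX.ofSect (M := Q n) (y n)) fun n => S10945.hom_ext_top (by
    rw [one_comp, InvX.one_ofSect, InvX.one_ofSect]
    exact hy n)
  refine ⟨InvX.one φ, fun n => ?_⟩
  have h1 := congrArg InvX.one (hφ n)
  rw [one_comp, InvX.one_ofSect] at h1
  exact h1

/-- A connected scheme with the Lefschetz property meets the closed subscheme in a connected set. -/
theorem isConnected_support [ConnectedSpace U] (h : Lef.HomToFormalBijective 𝓙 (Coh.structureModule U)) :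
    _root_.IsConnected (𝓙.support : Set U) := by
  have hne : (𝓙.support : Set U).Nonempty := by
    by_contra hemp
    have h01 : (1 : Γ(U, ⊤)) = 0 := red_injective h 1 0 fun n => eq_of_germ fun z => by
      haveI := subsingleton_stalk 𝓙 n (x := z) fun hz => hemp ⟨z, hz⟩
      exact Subsingleton.elim _ _
    obtain ⟨x⟩ := (inferInstance : Nonempty U)
    have h2 := congrArg (U.presheaf.germ ⊤ x trivial).hom h01
    rw [map_one, map_zero] at h2
    exact one_ne_zero h2
  refine ⟨hne, isPreconnected_closed_iff.2 fun t t' ht ht' hcov hA hB => ?_⟩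
  by_contra hAB
  let Z : Set U := 𝓙.support
  have hZc : IsClosed Z := 𝓙.support.isClosed
  let UA : U.Opens := ⟨(Z ∩ t')ᶜ, (hZc.inter ht').isOpen_compl⟩
  let UB : U.Opens := ⟨(Z ∩ t)ᶜ, (hZc.inter ht).isOpen_compl⟩
  have hUcov : ∀ z, z ∈ UA ∨ z ∈ UB := fun z => by
    by_cases hz : z ∈ Z ∩ t'
    · exact Or.inr fun hz' => hAB ⟨z, hz.1, hz'.2, hz.2⟩
    · exact Or.inl hz
  have hW : ∀ z, z ∈ UA → z ∈ UB → z ∉ Z := fun z hzA hzB hzZ => by
    rcases hcov hzZ with h | h
    · exact hzB ⟨hzZ, h⟩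
    · exact hzA ⟨hzZ, h⟩
  have hglue : ∀ n, ∃ q, _ := fun n => exists_glue (Q := ClSub.quotMod (𝓙 ^ (n + 1))) hUcov
    (red 𝓙 n ⊤ 1) (red 𝓙 n ⊤ 0) fun z hzA hzB => by
      haveI := subsingleton_stalk 𝓙 n (hW z hzA hzB)
      exact Subsingleton.elim _ _
  choose y hyA hyB using hglue
  have hcomp : ∀ n (r : Γ(U, ⊤)), (Lef.quotMap (I := 𝓙 ^ (n + 1 + 1)) (J := 𝓙 ^ (n + 1)) (Lef.pow_succ_le 𝓙 n)).app ⊤ (red 𝓙 (n + 1) ⊤ r) = red 𝓙 n ⊤ r :=
    fun n r => congr(($(toSubscheme_quotMap (I := 𝓙 ^ (n + 1 + 1)) (J := 𝓙 ^ (n + 1)) (Lef.pow_succ_le 𝓙 n))).app ⊤ r)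
  obtain ⟨f, hf⟩ := red_surjective h y fun n => eq_of_germ fun z => by
    rw [germ_app]
    rcases hUcov z with hz | hz
    · rw [hyA _ z hz, ← germ_app, hcomp, hyA _ z hz]
    · rw [hyB _ z hz, ← germ_app, hcomp, hyB _ z hz]
  have hAt : ∀ (n : ℕ) z, z ∈ UA → (DerSch.stalkFunctor U z).map (ClSub.toSubscheme (𝓙 ^ (n + 1)))
      ((Coh.structureModule U).presheaf.germ ⊤ z trivial (H23.UnitSec.ofFn (1 - f))) = 0 := fun n z hz => by
    rw [← germ_app]
    have e : (ClSub.toSubscheme (𝓙 ^ (n + 1))).app ⊤ (H23.UnitSec.ofFn (1 - f)) = red 𝓙 n ⊤ 1 - y n := by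
      rw [← hf n]
      exact map_sub ((ClSub.toSubscheme (𝓙 ^ (n + 1))).app ⊤).hom (H23.UnitSec.ofFn 1) (H23.UnitSec.ofFn f)
    rw [e, map_sub, hyA n z hz, sub_self]
  have hBt : ∀ (n : ℕ) z, z ∈ UB → (DerSch.stalkFunctor U z).map (ClSub.toSubscheme (𝓙 ^ (n + 1)))
      ((Coh.structureModule U).presheaf.germ ⊤ z trivial (H23.UnitSec.ofFn f)) = 0 := fun n z hz => by
    rw [← germ_app]
    show (ClSub.quotMod (𝓙 ^ (n + 1))).presheaf.germ ⊤ z trivial (red 𝓙 n ⊤ f) = 0
    rw [hf n, hyB n z hz]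
    exact (congrArg _ (map_zero ((ClSub.toSubscheme (𝓙 ^ (n + 1))).app ⊤).hom)).trans (map_zero _)
  have hidem : f * (1 - f) = 0 := red_injective h _ _ fun n => eq_of_germ fun z => by
    let Φ := (DerSch.stalkFunctor U z).map (ClSub.toSubscheme (𝓙 ^ (n + 1)))
    show (ClSub.quotMod (𝓙 ^ (n + 1))).presheaf.germ ⊤ z trivial (red 𝓙 n ⊤ (f * (1 - f))) =
      (ClSub.quotMod (𝓙 ^ (n + 1))).presheaf.germ ⊤ z trivial (red 𝓙 n ⊤ 0)
    rw [germ_app, germ_app]
    change Φ ((Coh.structureModule U).presheaf.germ ⊤ z trivial (H23.UnitSec.ofFn (f * (1 - f)))) =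
      Φ ((Coh.structureModule U).presheaf.germ ⊤ z trivial (H23.UnitSec.ofFn 0))
    rw [← H23.UnitSec.germ_smul_one, ← H23.UnitSec.germ_smul_one, map_zero, zero_smul, map_zero]
    rcases hUcov z with hz | hz
    · rw [map_mul, mul_smul, map_smul, H23.UnitSec.germ_smul_one, hAt n z hz, smul_zero]
    · rw [map_mul, mul_comm, mul_smul, map_smul, H23.UnitSec.germ_smul_one, hBt n z hz, smul_zero]
  obtain ⟨a, haZ, hat⟩ := hA
  obtain ⟨b, hbZ, hbt⟩ := hB
  have hfb : ¬ IsUnit (U.presheaf.germ ⊤ b trivial f) := not_isUnit_germ 𝓙 0 hbZ (V := ⊤) trivial f (by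
    rw [hf 0, hyB 0 b fun h => hAB ⟨b, h.1, h.2, hbt⟩]
    exact (congrArg _ (map_zero ((ClSub.toSubscheme (𝓙 ^ (0 + 1))).app ⊤).hom)).trans (map_zero _))
  have hfa : ¬ IsUnit (U.presheaf.germ ⊤ a trivial (1 - f)) := not_isUnit_germ 𝓙 0 haZ (V := ⊤) trivial (1 - f) (by
    rw [germ_app]
    exact hAt 0 a fun h => hAB ⟨a, h.1, hat, h.2⟩)
  have key : ∀ z : U, z ∉ U.basicOpen f ↔ z ∈ U.basicOpen (1 - f) := fun z => by
    rw [Scheme.mem_basicOpen_top, Scheme.mem_basicOpen_top, map_sub, map_one]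
    constructor
    · exact fun h => IsLocalRing.isUnit_one_sub_self_of_mem_nonunits _ h
    · intro h h'
      have h0 := congrArg (U.presheaf.germ ⊤ z trivial).hom hidem
      rw [map_mul, map_sub, map_one, map_zero] at h0
      rw [h'.mul_right_eq_zero.1 h0] at h
      exact not_isUnit_zero h
  have hcl : IsClopen (U.basicOpen f : Set U) := by
    refine ⟨⟨?_⟩, (U.basicOpen f).isOpen⟩
    rw [show (U.basicOpen f : Set U)ᶜ = U.basicOpen (1 - f) from Set.ext key]
    exact (U.basicOpen (1 - f)).isOpen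
  have ha : a ∈ U.basicOpen f := by
    by_contra ha
    exact hfa ((Scheme.mem_basicOpen_top U _ a).1 ((key a).1 ha))
  exact hfb ((Scheme.mem_basicOpen_top U _ b).1 ((hcl.eq_univ ⟨a, ha⟩).ge (Set.mem_univ b) :))

/-- A scheme with the Lefschetz property is connected when the closed subscheme is. -/
theorem connectedSpace_of_support (h : Lef.HomToFormalBijective 𝓙 (Coh.structureModule U))
    (hZ : _root_.IsConnected (𝓙.support : Set U)) : ConnectedSpace U := by
  haveI : Nonempty U := ⟨hZ.nonempty.some⟩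
  have key : ∀ S : Set U, IsClopen S → (∀ z ∈ (𝓙.support : Set U), z ∉ S) → S = ∅ := fun S hS hd => by
    obtain ⟨f, hfS, hfc⟩ := exists_glue (Q := Coh.structureModule U) (P := ⟨S, hS.isOpen⟩)
      (P' := ⟨Sᶜ, hS.compl.isOpen⟩) (fun z => em (z ∈ S)) (H23.UnitSec.oneG ⊤) 0
      fun z h h' => absurd h h'
    have hf0 : (show Γ(U, ⊤) from f) = 0 := red_injective h _ _ fun n => eq_of_germ fun z => by
      by_cases hz : z ∈ (𝓙.support : Set U)
      · show _ = (ClSub.quotMod (𝓙 ^ (n + 1))).presheaf.germ ⊤ z trivial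
          ((ClSub.toSubscheme (𝓙 ^ (n + 1))).app ⊤ (H23.UnitSec.ofFn 0))
        rw [germ_app, germ_app]
        exact congrArg ((DerSch.stalkFunctor U z).map (ClSub.toSubscheme (𝓙 ^ (n + 1)))) (hfc z (hd z hz))
      · haveI := subsingleton_stalk 𝓙 n (x := z) hz
        exact Subsingleton.elim _ _
    refine Set.eq_empty_iff_forall_notMem.2 fun z hz => ?_
    have h1 := hfS z hz
    rw [show f = 0 from hf0, map_zero] at h1
    have h2 : (1 : U.presheaf.stalk z) • H23.UnitSec.one z = 0 := by rw [one_smul]; exact h1.symm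
    exact one_ne_zero (H23.UnitSec.eq_zero_of_smul_one _ h2)
  refine connectedSpace_iff_clopen.2 ⟨inferInstance, fun S hS => ?_⟩
  rcases (isPreconnected_iff_subset_of_disjoint.1 hZ.isPreconnected) S Sᶜ hS.isOpen hS.compl.isOpen
    (fun z _ => em _) (by simp) with hh | hh
  · exact Or.inr (Set.compl_empty_iff.1 (key Sᶜ hS.compl fun z hz h' => h' (hh hz)))
  · exact Or.inl (key S hS fun z hz h' => hh hz h')

end Groth.Agent.LefLib
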