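import Groth.Agent.DepthTwist.General
import Groth.Agent.DepthTwist.IdealPow
import Groth.Agent.LefLib.Connected
import Groth.Agent.QCoh.HHExact

/-!
# Homomorphisms to the formal completion along an ample divisor
-/

set_option linter.style.haveILetI false
set_option linter.unusedSectionVars false
set_option backward.isDefEq.respectTransparency false
set_option backward.isDefEq.respectTransparency.types false

universe u

open CategoryTheory CategoryTheory.Limits AlgebraicGeometry TopologicalSpace Opposite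
open Groth.Agent.H23.PicMul

noncomputable section

namespace Groth.Agent.LefLib

open Groth.Agent Groth.Agent.AmpleVan

variable {X : Scheme.{u}} {𝓘 : X.IdealSheafData}

/-- The reductions of a morphism form a formal morphism. -/
theorem comp_toSubscheme_quotMap {D : X.Modules} (φ : D ⟶ Coh.structureModule X) (n : ℕ) :
    (φ ≫ ClSub.toSubscheme (𝓘 ^ (n + 1 + 1))) ≫
      Lef.quotMap (I := 𝓘 ^ (n + 1 + 1)) (J := 𝓘 ^ (n + 1)) (Lef.pow_succ_le 𝓘 n) =
      φ ≫ ClSub.toSubscheme (𝓘 ^ (n + 1)) := by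
  rw [Category.assoc, toSubscheme_quotMap]

/-- Bijectivity at all large levels suffices. -/
theorem homToFormal_of_eventually {D : X.Modules} (n₀ : ℕ)
    (h : ∀ n, n₀ ≤ n → Function.Bijective
      (fun φ : D ⟶ Coh.structureModule X => φ ≫ ClSub.toSubscheme (𝓘 ^ (n + 1)))) :
    Lef.HomToFormalBijective 𝓘 D := by
  refine ⟨fun φ ψ he => (h n₀ le_rfl).1 (he n₀), fun y hy => ?_⟩
  obtain ⟨φ, hφ⟩ := (h n₀ le_rfl).2 (y n₀)
  refine ⟨φ, ?_⟩
  have hup : ∀ n, n₀ ≤ n → φ ≫ ClSub.toSubscheme (𝓘 ^ (n + 1)) = y n := by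
    intro n hn
    induction n, hn using Nat.le_induction with
    | base => exact hφ
    | succ n hn ih =>
      obtain ⟨ψ, hψ⟩ := (h (n + 1) (by omega)).2 (y (n + 1))
      have hψ' : ψ ≫ ClSub.toSubscheme (𝓘 ^ (n + 1 + 1)) = y (n + 1) := hψ
      have hq : φ ≫ ClSub.toSubscheme (𝓘 ^ (n + 1)) = ψ ≫ ClSub.toSubscheme (𝓘 ^ (n + 1)) := by
        rw [ih, ← comp_toSubscheme_quotMap (𝓘 := 𝓘) ψ n, hψ', hy n]
      rw [(h n hn).1 hq]
      exact hψ'
  have hdown : ∀ (d n : ℕ), n + d = n₀ → φ ≫ ClSub.toSubscheme (𝓘 ^ (n + 1)) = y n := by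
    intro d
    induction d with
    | zero => intro n hn; exact hup n (by omega)
    | succ d ih =>
      intro n hn
      rw [← comp_toSubscheme_quotMap (𝓘 := 𝓘) φ n, ih (n + 1) (by omega), hy n]
  intro n
  rcases Nat.le_total n₀ n with hn | hn
  · exact hup n hn
  · exact hdown (n₀ - n) n (by omega)

theorem homToFormal_of_iso {D E : X.Modules} (e : D ≅ E) (h : Lef.HomToFormalBijective 𝓘 D) :
    Lef.HomToFormalBijective 𝓘 E := by
  refine ⟨fun φ ψ he => (cancel_epi e.hom).1 (h.1 _ _ fun n => by rw [Category.assoc, Category.assoc, he n]),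
    fun y hy => ?_⟩
  obtain ⟨φ, hφ⟩ := h.2 (fun n => e.hom ≫ y n) fun n => by rw [Category.assoc]; exact congrArg (e.hom ≫ ·) (hy n)
  exact ⟨e.inv ≫ φ, fun n => by rw [Category.assoc, hφ n, e.inv_hom_id_assoc]⟩

theorem homToFormal_of_cofan {ι : Type} {P : ι → X.Modules} (c : Cofan P) (hc : IsColimit c)
    (h : ∀ j, Lef.HomToFormalBijective 𝓘 (P j)) : Lef.HomToFormalBijective 𝓘 c.pt := by
  refine ⟨fun φ ψ he => hc.hom_ext fun j => (h j.as).1 _ _ fun n => by
    rw [Category.assoc, Category.assoc, he n], fun y hy => ?_⟩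
  have H : ∀ j, ∃ φ : P j ⟶ Coh.structureModule X, ∀ n,
      φ ≫ ClSub.toSubscheme (𝓘 ^ (n + 1)) = c.inj j ≫ y n := fun j =>
    (h j).2 (fun n => c.inj j ≫ y n) fun n => by rw [Category.assoc]; exact congrArg (c.inj j ≫ ·) (hy n)
  choose φ hφ using H
  refine ⟨hc.desc (Cofan.mk (Coh.structureModule X) φ), fun n => hc.hom_ext fun j => ?_⟩
  rw [← Category.assoc, hc.fac]
  exact hφ j.as n

theorem subsingleton_hom_unit {P : X.Modules} (h : Subsingleton (Coh.HH X P 0)) :
    Subsingleton (Coh.structureModule X ⟶ P) := by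
  haveI : Subsingleton Γ(P, ⊤) := (Sheaf.H.equiv₀ (Coh.toAb P) isTerminalTop).symm.toEquiv.subsingleton
  exact ⟨fun s t => S10945.hom_ext_top (Subsingleton.elim _ _)⟩

variable (k : Type u) [Field k] [X.Over (Spec (CommRingCat.of k))] [IsProper (X ↘ Spec (CommRingCat.of k))]

include k in
/-- Invertible modules have the Lefschetz property with respect to an ample divisor. -/
theorem homToFormal_invertible {L : X.Modules} (hI : PicF.IsInvertible (ClSub.idealMod 𝓘))
    (hL : ClSub.IsInverseOf L (ClSub.idealMod 𝓘)) (hamp : CohB1.IsAmple L)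
    (hdepth : ∀ x : X, IsClosed ({x} : Set X) → (2 : ℕ∞) ≤ LocCoh.depth (X.presheaf.stalk x) (X.presheaf.stalk x))
    {Q : X.Modules} (hQ : PicF.IsInvertible Q) : Lef.HomToFormalBijective 𝓘 Q := by
  haveI : IsLocallyNoetherian X := LocallyOfFiniteType.isLocallyNoetherian (X ↘ Spec (CommRingCat.of k))
  obtain ⟨Q', hQ', ⟨eQ⟩⟩ := H23.PicInv.exists_inverse hQ
  haveI := isEquivalence_tw hQ'
  haveI : (tw Q').Additive := Functor.additive_of_preserves_binary_products _
  let T := tw Q'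
  let e : T.obj Q ≅ Coh.structureModule X := eQ
  obtain ⟨m₀, hm₀⟩ := DepthTwist.exists_vanishing_le k hamp hL Q'
    (CurveDeg.isCoh_of_isInvertible hQ') 1 fun x hx => by
      obtain ⟨ε⟩ := H23.InvStalk.exists_stalk_equiv hQ' x
      exact (hdepth x hx).trans (Alg6.depth_eq_of_semilinear (RingHom.id (X.presheaf.stalk x))
        (fun a => ⟨a, rfl⟩) ε.toAddEquiv (fun r v => map_smul ε r v)).ge
  refine homToFormal_of_eventually m₀ fun n hn => ?_
  let S := ShortComplex.mk (ClSub.idealModι (𝓘 ^ (n + 1))) (ClSub.toSubscheme (𝓘 ^ (n + 1))) (kernel.condition _)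
  have hS : S.ShortExact := IntSym.shortExact_toSubscheme _
  have hvan : ∀ i, i ≤ 1 → Subsingleton (Coh.HH X (T.obj (ClSub.idealMod (𝓘 ^ (n + 1)))) i) := fun i hi => by
    obtain ⟨-, hcl⟩ := DepthTwist.cl_idealMod_pow 𝓘 hI n
    obtain ⟨u⟩ : Nonempty (CohB1.tensorMod Q' (CohB1.tensorPow (ClSub.idealMod 𝓘) (n + 1)) ≅
        T.obj (ClSub.idealMod (𝓘 ^ (n + 1)))) := cl_eq_iff.1 (by
      show _ = PicF.cl (CohB1.tensorMod (ClSub.idealMod (𝓘 ^ (n + 1))) Q')
      rw [cl_tensor, cl_tensor, cl_tensorPow, hcl, mul_comm])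
    exact QCoh.subsingleton_HH_of_iso u i (hm₀ (n + 1) (by omega) i hi)
  refine ⟨fun φ ψ he => ?_, fun ψ => ?_⟩
  · haveI := hS.mono_f
    have h0 : (φ - ψ) ≫ ClSub.toSubscheme (𝓘 ^ (n + 1)) = 0 := by
      rw [Preadditive.sub_comp, sub_eq_zero]; exact he
    let z : Q ⟶ ClSub.idealMod (𝓘 ^ (n + 1)) := kernel.lift _ (φ - ψ) h0
    haveI := subsingleton_hom_unit (hvan 0 (by omega))
    have hz : z = 0 := T.map_injective (by
      rw [Functor.map_zero, ← cancel_epi e.inv]
      exact Subsingleton.elim _ _)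
    rw [← sub_eq_zero, ← kernel.lift_ι (ClSub.toSubscheme (𝓘 ^ (n + 1))) (φ - ψ) h0]
    show z ≫ _ = 0
    rw [hz, zero_comp]
  · obtain ⟨r, hr⟩ := QCoh.app_top_surjective_of_HH_one (hS.map_of_exact T) (hvan 1 le_rfl)
      (InvX.one (e.inv ≫ T.map ψ))
    refine ⟨T.preimage (e.hom ≫ InvX.ofSect (M := T.obj (Coh.structureModule X)) r), T.map_injective ?_⟩
    rw [Functor.map_comp, Functor.map_preimage, Category.assoc, ← Iso.eq_inv_comp]
    refine S10945.hom_ext_top ?_
    rw [one_comp, InvX.one_ofSect]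
    exact hr

include k in
/-- Coherent modules have the Lefschetz property with respect to an ample divisor. -/
theorem homToFormal_coh {L : X.Modules} (hI : PicF.IsInvertible (ClSub.idealMod 𝓘))
    (hL : ClSub.IsInverseOf L (ClSub.idealMod 𝓘)) (hamp : CohB1.IsAmple L)
    (hdepth : ∀ x : X, IsClosed ({x} : Set X) → (2 : ℕ∞) ≤ LocCoh.depth (X.presheaf.stalk x) (X.presheaf.stalk x))
    {G : X.Modules} (hG : Coh.IsCoh G) : Lef.HomToFormalBijective 𝓘 G := by
  haveI : IsLocallyNoetherian X := LocallyOfFiniteType.isLocallyNoetherian (X ↘ Spec (CommRingCat.of k))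
  haveI : CompactSpace X := hamp.2.1
  haveI := AmpleX.isSeparated_of_isAmple hamp
  obtain ⟨L', hL', ⟨eL⟩⟩ := H23.PicInv.exists_inverse hamp.1
  have hinv : PicF.cl L * PicF.cl L' = 1 := by
    rw [← cl_tensor, H23.PicMul.one_def]; exact cl_eq_iff.2 ⟨eL⟩
  have cover : ∀ H : X.Modules, Coh.IsCoh H → ∃ (P : X.Modules) (q : P ⟶ H), Epi q ∧
      FlatMod.IsFinLocFree P ∧ Lef.HomToFormalBijective 𝓘 P := fun H hH => by
    obtain ⟨m, hm⟩ := AmpleX.eventually_generated hamp hH.1 hH.2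
    obtain ⟨G', φ, ι, s, hs⟩ := hm m le_rfl
    have hG' : Coh.IsCoh G' := SheafHomX.isCoh_of_iso φ.symm
      (AmpleVan.isCoh_tensor hH (AmpleVan.isCoh_invertible (InvX.isInvertible_tensorPow hamp.1 m)))
    obtain ⟨c, f, hf⟩ := exists_fin_generatedBy hG' s hs
    obtain ⟨g, hg⟩ := InvX.exists_epi_freeMod hf
    let R := CohB1.tensorPow L' m
    have hR : PicF.IsInvertible R := InvX.isInvertible_tensorPow hL' _
    haveI := isEquivalence_tw hR
    obtain ⟨ψ⟩ : Nonempty ((tw R).obj G' ≅ H) := cl_eq_iff.1 (by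
      show PicF.cl (CohB1.tensorMod G' R) = _
      rw [cl_tensor, cl_eq_iff.2 ⟨φ⟩, cl_tensor, cl_tensorPow, cl_tensorPow, mul_assoc, ← mul_pow, hinv,
        one_pow, mul_one])
    refine ⟨(tw R).obj (FlatMod.freeMod X c), (tw R).map g ≫ ψ.hom, epi_comp _ _,
      KFlatLib.isFinLocFree_tensor (KFlatLib.isFinLocFree_freeMod c) (H23.PullPush.isFinLocFree_of_isInvertible hR), ?_⟩
    exact homToFormal_of_cofan _ (isColimitCofanMkObjOfIsColimit (tw R) _ _
      (coproductIsCoproduct fun _ : Fin c => Coh.structureModule X)) fun j =>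
      homToFormal_invertible k hI hL hamp hdepth
        (InvX.isInvertible_tensorMod InvX.isInvertible_structureModule hR)
  have inj : ∀ H : X.Modules, Coh.IsCoh H → ∀ φ ψ : H ⟶ Coh.structureModule X,
      (∀ n : ℕ, φ ≫ ClSub.toSubscheme (𝓘 ^ (n + 1)) = ψ ≫ ClSub.toSubscheme (𝓘 ^ (n + 1))) → φ = ψ :=
    fun H hH φ ψ he => by
      obtain ⟨P, q, hq, -, hP⟩ := cover H hH
      exact (cancel_epi q).1 (hP.1 _ _ fun n => by rw [Category.assoc, Category.assoc, he n])
  refine ⟨inj G hG, fun y hy => ?_⟩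
  obtain ⟨P, q, hq, hPl, hP⟩ := cover G hG
  obtain ⟨φ₀, hφ₀⟩ := hP.2 (fun n => q ≫ y n) fun n => by rw [Category.assoc]; exact congrArg (q ≫ ·) (hy n)
  have hK : kernel.ι q ≫ φ₀ = 0 := inj _ (QCoh.isCoh_kernel (CurveDeg.isCoh_of_isFinLocFree hPl) hG q) _ _
    fun n => by rw [Category.assoc, hφ₀ n, ← Category.assoc, kernel.condition, zero_comp, zero_comp]
  refine ⟨Abelian.epiDesc q φ₀ hK, fun n => (cancel_epi q).1 ?_⟩
  rw [← Category.assoc, Abelian.comp_epiDesc, hφ₀ n]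

end Groth.Agent.LefLib
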