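import Groth.Agent.LefLib.Connected
import Groth.Agent.FComplLib.IdealComap
import Groth.Agent.S14995
import Groth.Agent.QCoh.ExtendFT
import Groth.Agent.ParShLib.ResStalk

/-!
# Restricting the quotients by the powers of an ideal to an open subscheme
-/

set_option linter.style.haveILetI false
set_option linter.unusedSectionVars false
set_option backward.isDefEq.respectTransparency false
set_option backward.isDefEq.respectTransparency.types false

universe u

open CategoryTheory CategoryTheory.Limits AlgebraicGeometry TopologicalSpace Opposite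

noncomputable section

namespace Groth.Agent.LefLib

open Groth.Agent

variable {X V : Scheme.{u}} (j : V ⟶ X) [IsOpenImmersion j]

/-- The restriction of the structure module. -/
abbrev uIso : (Scheme.Modules.restrictFunctor j).obj (Coh.structureModule X) ≅ Coh.structureModule V :=
  Scheme.Modules.restrictUnitIso j

/-- A map into the structure module is killed by the restricted quotient map exactly when it is killed
by the quotient map of the restricted ideal. -/
theorem comp_restrict_iff (D : X.IdealSheafData) {A : V.Modules}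
    (g : A ⟶ (Scheme.Modules.restrictFunctor j).obj (Coh.structureModule X)) :
    g ≫ (Scheme.Modules.restrictFunctor j).map (ClSub.toSubscheme D) = 0 ↔
      g ≫ (uIso j).hom ≫ ClSub.toSubscheme (D.comap j) = 0 := by
  have key : ∀ {W : V.Opens} (hW : IsAffineOpen W) (r : Γ(X, j ''ᵁ W)),
      (ClSub.toSubscheme D).app (j ''ᵁ W) r = 0 ↔
        (ClSub.toSubscheme (D.comap j)).app W ((j.appIso W).hom r) = 0 := fun {W} hW r => by
    rw [IntSym.QuotTensor.toSub_app_eq_zero D (hW.image_of_isOpenImmersion j),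
      IntSym.QuotTensor.toSub_app_eq_zero (D.comap j) hW,
      Scheme.IdealSheafData.ideal_comap_of_isOpenImmersion D j ⟨W, hW⟩, Ideal.mem_comap]
    rw [show (j.appIso W).inv ((j.appIso W).hom r) = r from
      Iso.hom_inv_id_apply (j.appIso W) r]
  constructor <;> intro h
  · refine Scheme.Modules.hom_ext _ 0 fun W' => AddCommGrpCat.ext fun y => ?_
    refine (QCoh.eq_zero_of_locally W' _ fun p hp => ?_).trans rfl
    obtain ⟨_, ⟨W, hW, rfl⟩, hpW, hWV⟩ :=
      V.isBasis_affineOpens.exists_subset_of_mem_open (show p ∈ W' from hp) W'.isOpen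
    refine ⟨W, homOfLE hWV, hpW, ?_⟩
    rw [← QCoh.map_app_comm]
    exact (key hW _).1 congr(($h).app W (A.presheaf.map (homOfLE hWV).op y))
  · refine Scheme.Modules.hom_ext _ 0 fun W' => AddCommGrpCat.ext fun y => ?_
    refine (QCoh.eq_zero_of_locally W' _ fun p hp => ?_).trans rfl
    obtain ⟨_, ⟨W, hW, rfl⟩, hpW, hWV⟩ :=
      V.isBasis_affineOpens.exists_subset_of_mem_open (show p ∈ W' from hp) W'.isOpen
    refine ⟨W, homOfLE hWV, hpW, ?_⟩
    rw [← QCoh.map_app_comm]
    exact (key hW _).2 congr(($h).app W (A.presheaf.map (homOfLE hWV).op y))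

/-- Quotient maps are stable under restriction. -/
theorem exists_restrict_iso (D : X.IdealSheafData) (E : V.IdealSheafData) (hE : D.comap j = E) :
    ∃ κ : (Scheme.Modules.restrictFunctor j).obj (ClSub.quotMod D) ≅ ClSub.quotMod E,
      (Scheme.Modules.restrictFunctor j).map (ClSub.toSubscheme D) ≫ κ.hom =
        (uIso j).hom ≫ ClSub.toSubscheme E := by
  subst hE
  let R := Scheme.Modules.restrictFunctor j
  haveI : R.PreservesZeroMorphisms := inferInstance
  let hc := (CokernelCofork.ofπ (ClSub.toSubscheme D) (kernel.condition (ClSub.toSubscheme D))).mapIsColimit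
    (IntSym.shortExact_toSubscheme D).gIsCokernel R
  obtain ⟨a, ha⟩ := CokernelCofork.IsColimit.desc' hc ((uIso j).hom ≫ ClSub.toSubscheme (D.comap j)) (by
    refine (comp_restrict_iff j D (R.map (ClSub.idealModι D))).1 ?_
    rw [← Functor.map_comp, show ClSub.idealModι D ≫ ClSub.toSubscheme D = 0 from kernel.condition _,
      Functor.map_zero])
  obtain ⟨b, hb⟩ := CokernelCofork.IsColimit.desc' (IntSym.shortExact_toSubscheme (D.comap j)).gIsCokernel
    ((uIso j).inv ≫ R.map (ClSub.toSubscheme D)) (by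
    rw [← Category.assoc]
    refine (comp_restrict_iff j D _).2 ?_
    rw [Category.assoc, Iso.inv_hom_id_assoc]
    exact kernel.condition _)
  have ha' : R.map (ClSub.toSubscheme D) ≫ a = (uIso j).hom ≫ ClSub.toSubscheme (D.comap j) := ha
  have hb' : ClSub.toSubscheme (D.comap j) ≫ b = (uIso j).inv ≫ R.map (ClSub.toSubscheme D) := hb
  haveI := CurvePoint.epi_toSubscheme D
  haveI := CurvePoint.epi_toSubscheme (D.comap j)
  refine ⟨⟨a, b, (cancel_epi (R.map (ClSub.toSubscheme D))).1 ?_,
    (cancel_epi (ClSub.toSubscheme (D.comap j))).1 ?_⟩, ha'⟩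
  · rw [← Category.assoc, ha', Category.assoc, hb', Iso.hom_inv_id_assoc]
    exact (Category.comp_id _).symm
  · rw [← Category.assoc, hb', Category.assoc, ha', Iso.inv_hom_id_assoc]
    exact (Category.comp_id _).symm

/-- If the Lefschetz property holds for coherent modules on `X` and the depth off `U` is at least two, it
holds for coherent modules on `U`. -/
theorem homToFormal_restrict [IsNoetherian X] (𝓘 : X.IdealSheafData) (U : X.Opens)
    (hU : (𝓘.support : Set X) ⊆ (U : Set X))
    (hdepth : ∀ y : X, y ∉ U → (2 : ℕ∞) ≤ LocCoh.depth (X.presheaf.stalk y) (X.presheaf.stalk y))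
    (h : ∀ G : X.Modules, Coh.IsCoh G → Lef.HomToFormalBijective 𝓘 G)
    (D : U.toScheme.Modules) (hD : Coh.IsCoh D) :
    Lef.HomToFormalBijective (𝓘.comap U.ι) D := by
  let R := Scheme.Modules.restrictFunctor U.ι
  haveI : QuasiCompact U.ι := inferInstance
  obtain ⟨G, hGq, hGf, ⟨eD⟩⟩ := QCoh.exists_extension_abs
    (QCoh.extStep_qcqs (NoetherianSpace.isCompact (U : Set X))) D hD.1 hD.2
  have hG : Coh.IsCoh G := ⟨hGq, hGf⟩
  let eD' : R.obj G ≅ D := eD
  let Q : ℕ → X.Modules := fun n => ClSub.quotMod (𝓘 ^ (n + 1))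
  have bO := S14995.result X (Coh.structureModule X) G QCoh.isCoh_structureModule' hG U fun y hy => by
    obtain ⟨ε⟩ := AssLib.nonempty_stalkUnitEquiv y
    exact (hdepth y hy).trans (Alg6.depth_eq_of_semilinear (RingHom.id (X.presheaf.stalk y))
      (fun a => ⟨a, rfl⟩) ε.toAddEquiv (fun r v => map_smul ε r v)).le
  have bQ : ∀ n, Function.Bijective (fun φ : G ⟶ Q n => R.map φ) := fun n =>
    S14995.result X (Q n) G (ParShLib.isCoh_quotMod _) hG U fun y hy => by
      haveI : Subsingleton ((Q n).presheaf.stalk y) := subsingleton_stalk 𝓘 n fun hz => hy (hU hz)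
      exact le_top.trans_eq (if_pos (Subsingleton.elim _ _)).symm
  choose κ hκ using fun n : ℕ => exists_restrict_iso U.ι (𝓘 ^ (n + 1)) ((𝓘.comap U.ι) ^ (n + 1))
    (FComplLib.comap_pow U.ι 𝓘 (n + 1))
  have hκq : ∀ n, R.map (Lef.quotMap (I := 𝓘 ^ (n + 1 + 1)) (J := 𝓘 ^ (n + 1)) (Lef.pow_succ_le 𝓘 n)) ≫ (κ n).hom =
      (κ (n + 1)).hom ≫ Lef.quotMap (I := (𝓘.comap U.ι) ^ (n + 1 + 1)) (J := (𝓘.comap U.ι) ^ (n + 1))
        (Lef.pow_succ_le (𝓘.comap U.ι) n) := fun n => by
    haveI := CurvePoint.epi_toSubscheme (𝓘 ^ (n + 1 + 1))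
    rw [← cancel_epi (R.map (ClSub.toSubscheme (𝓘 ^ (n + 1 + 1)))), ← Category.assoc, ← Functor.map_comp,
      toSubscheme_quotMap, hκ n, ← Category.assoc, hκ (n + 1), Category.assoc, toSubscheme_quotMap]
  refine ⟨fun φ ψ he => ?_, fun y hy => ?_⟩
  · obtain ⟨a, ha⟩ := bO.2 (eD'.hom ≫ φ ≫ (uIso U.ι).inv)
    obtain ⟨b, hb⟩ := bO.2 (eD'.hom ≫ ψ ≫ (uIso U.ι).inv)
    have ha' : R.map a = eD'.hom ≫ φ ≫ (uIso U.ι).inv := ha
    have hb' : R.map b = eD'.hom ≫ ψ ≫ (uIso U.ι).inv := hb
    have hab : a = b := (h G hG).1 a b fun n => (bQ n).1 (by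
      show R.map (a ≫ _) = R.map (b ≫ _)
      rw [← cancel_mono (κ n).hom, Functor.map_comp, Functor.map_comp, Category.assoc, Category.assoc,
        hκ n, ha', hb']
      simp only [Category.assoc, Iso.inv_hom_id_assoc]
      rw [he n])
    rw [hab, hb'] at ha'
    exact ((cancel_mono (uIso U.ι).inv).1 ((cancel_epi eD'.hom).1 ha')).symm
  · choose z hz using fun n => (bQ n).2 (eD'.hom ≫ y n ≫ (κ n).inv)
    have hz' : ∀ n, R.map (z n) = eD'.hom ≫ y n ≫ (κ n).inv := hz
    obtain ⟨a, ha⟩ := (h G hG).2 z fun n => (bQ n).1 (by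
      show R.map (z (n + 1) ≫ Lef.quotMap (I := 𝓘 ^ (n + 1 + 1)) (J := 𝓘 ^ (n + 1)) (Lef.pow_succ_le 𝓘 n)) = R.map (z n)
      rw [← cancel_mono (κ n).hom, Functor.map_comp, Category.assoc, hκq n, hz', hz']
      simp only [Category.assoc, Iso.inv_hom_id_assoc, Iso.inv_hom_id, Category.comp_id]
      exact congrArg (eD'.hom ≫ ·) (hy n))
    refine ⟨eD'.inv ≫ R.map a ≫ (uIso U.ι).hom, fun n => ?_⟩
    rw [Category.assoc, Category.assoc, ← hκ n, ← Category.assoc (R.map a), ← Functor.map_comp, ha n, hz']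
    simp only [Category.assoc, Iso.inv_hom_id, Category.comp_id, Iso.inv_hom_id_assoc]

end Groth.Agent.LefLib
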