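import Groth.Agent.LefLib.PicLift
import Groth.Agent.RGLib.Lim8LocFree
import Groth.Agent.Lib.InvEnd
import Groth.Agent.Lib.CurveDualPrep
import Groth.Agent.ParaFX.Closed

/-!
# Invertible modules on a thickening come from a neighbourhood under the effective Lefschetz condition
-/

set_option linter.style.haveILetI false
set_option backward.isDefEq.respectTransparency false
set_option backward.isDefEq.respectTransparency.types false

universe u

open CategoryTheory CategoryTheory.Limits AlgebraicGeometry TopologicalSpace Opposite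
open Groth.Agent.H23.PicMul

noncomputable section

namespace Groth.Agent.LefLib

open Groth.Agent

variable {X : Scheme.{u}} (𝓘 : X.IdealSheafData)

theorem pow_le_pow' {a b : ℕ} (h : a ≤ b) : 𝓘 ^ b ≤ 𝓘 ^ a := by
  obtain ⟨c, rfl⟩ := Nat.exists_eq_add_of_le h
  rw [pow_add]
  exact mul_le_of_le_one_right' le_top

theorem incl_comp {A B C : X.IdealSheafData} (h₁ : A ≤ B) (h₂ : B ≤ C) (h₃ : A ≤ C) :
    Scheme.IdealSheafData.inclusion h₂ ≫ Scheme.IdealSheafData.inclusion h₁ = Scheme.IdealSheafData.inclusion h₃ := by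
  rw [← cancel_mono A.subschemeι, Category.assoc]
  simp only [Scheme.IdealSheafData.inclusion_subschemeι]

theorem incl_square {A B B' C : X.IdealSheafData} (h₁ : A ≤ B) (h₂ : B ≤ C) (h₃ : A ≤ B') (h₄ : B' ≤ C) :
    Scheme.IdealSheafData.inclusion h₂ ≫ Scheme.IdealSheafData.inclusion h₁ =
      Scheme.IdealSheafData.inclusion h₄ ≫ Scheme.IdealSheafData.inclusion h₃ := by
  rw [incl_comp h₁ h₂ (h₁.trans h₂), incl_comp h₃ h₄ (h₁.trans h₂)]

/-- A compatible system of invertible modules above a given level. -/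
theorem exists_system (p : ℕ)
    (h2 : ∀ m, p ≤ m → Subsingleton (Coh.HH X (kernel (Lef.quotMap (Lef.pow_succ_le 𝓘 m))) 2))
    (n : ℕ) (hn : p ≤ n) (N : ((𝓘 ^ (n + 1)).subscheme).Modules) (hN : PicF.IsInvertible N) :
    ∃ 𝔐 : FSch.ModSys (FSch.completionAlong X 𝓘),
      (∀ k, PicF.IsInvertible (𝔐.F k)) ∧ PicF.cl (𝔐.F n) = PicF.cl N := by
  have step : ∀ d, ∀ M : {M : ((𝓘 ^ (n + d + 1)).subscheme).Modules // PicF.IsInvertible M},
      ∃ M' : {M : ((𝓘 ^ (n + d + 1 + 1)).subscheme).Modules // PicF.IsInvertible M},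
        PicF.pullCl (Scheme.IdealSheafData.inclusion (Lef.pow_succ_le 𝓘 (n + d))) (PicF.cl M'.1) = PicF.cl M.1 := by
    intro d M
    obtain ⟨M', hM', hiso⟩ := exists_lift_inclusion (Lef.pow_succ_le 𝓘 (n + d))
      (by rw [← pow_add]; exact pow_le_pow' 𝓘 (by omega)) (h2 (n + d) (by omega)) M.1 M.2
    exact ⟨⟨M', hM'⟩, cl_eq_iff.2 hiso⟩
  choose g hg using step
  let z : ∀ d, {M : ((𝓘 ^ (n + d + 1)).subscheme).Modules // PicF.IsInvertible M} :=
    fun d => Nat.rec (motive := fun d => {M : ((𝓘 ^ (n + d + 1)).subscheme).Modules // PicF.IsInvertible M})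
      ⟨N, hN⟩ (fun d M => g d M) d
  have hz : ∀ d, PicF.pullCl (Scheme.IdealSheafData.inclusion (Lef.pow_succ_le 𝓘 (n + d))) (PicF.cl (z (d + 1)).1) =
      PicF.cl (z d).1 := fun d => hg d (z d)
  have hle : ∀ k, 𝓘 ^ (n + k + 1) ≤ 𝓘 ^ (k + 1) := fun k => pow_le_pow' 𝓘 (by omega)
  let j : ∀ k, (𝓘 ^ (k + 1)).subscheme ⟶ (𝓘 ^ (n + k + 1)).subscheme :=
    fun k => Scheme.IdealSheafData.inclusion (hle k)
  have hj : ∀ k, (FSch.completionAlong X 𝓘).ι k ≫ j (k + 1) =
      j k ≫ Scheme.IdealSheafData.inclusion (Lef.pow_succ_le 𝓘 (n + k)) := fun k =>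
    incl_square _ _ _ _
  have he : ∀ k, Nonempty ((Scheme.Modules.pullback ((FSch.completionAlong X 𝓘).ι k)).obj
      ((Scheme.Modules.pullback (j (k + 1))).obj (z (k + 1)).1) ≅
      (Scheme.Modules.pullback (j k)).obj (z k).1) := fun k => cl_eq_iff.1 (by
    show PicF.pullCl _ (PicF.pullCl (j (k + 1)) (PicF.cl (z (k + 1)).1)) = PicF.pullCl (j k) (PicF.cl (z k).1)
    rw [← hz k, PicClLib.pullCl_comp, PicClLib.pullCl_comp, hj k])
  refine ⟨{ F := fun k => (Scheme.Modules.pullback (j k)).obj (z k).1, e := fun k => (he k).some },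
    fun k => PicClLib.isInvertible_pullback _ (z k).2, ?_⟩
  have hdown : ∀ d, PicF.pullCl (Scheme.IdealSheafData.inclusion
      (pow_le_pow' 𝓘 (show n + 1 ≤ n + d + 1 by omega))) (PicF.cl (z d).1) = PicF.cl N := by
    intro d
    induction d with
    | zero =>
      rw [show Scheme.IdealSheafData.inclusion _ = 𝟙 (𝓘 ^ (n + 1)).subscheme from
        (cancel_mono (𝓘 ^ (n + 1)).subschemeι).1 (by
          rw [Scheme.IdealSheafData.inclusion_subschemeι, Category.id_comp]), PicClLib.pullCl_id]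
      rfl
    | succ d ih =>
      rw [← hz d, PicClLib.pullCl_comp] at ih
      refine Eq.trans ?_ ih
      exact congrArg (fun f => PicF.pullCl f _) (incl_comp _ _ _).symm
  exact hdown n

/-- Under the effective Lefschetz condition every invertible module on a high thickening extends to
an invertible module on a neighbourhood. -/
theorem exists_extension (h1 : LefX.LeffCond X 𝓘) (p : ℕ)
    (h2 : ∀ m, p ≤ m → Subsingleton (Coh.HH X (kernel (Lef.quotMap (Lef.pow_succ_le 𝓘 m))) 2))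
    (n : ℕ) (hn : p ≤ n) (N : ((𝓘 ^ (n + 1)).subscheme).Modules) (hN : PicF.IsInvertible N) :
    ∃ (U : X.Opens) (L : (U : Scheme.{u}).Modules) (g : (𝓘 ^ (n + 1)).subscheme ⟶ U),
      (𝓘.support : Set X) ⊆ (U : Set X) ∧ g ≫ U.ι = (𝓘 ^ (n + 1)).subschemeι ∧ PicF.IsInvertible L ∧
        Nonempty ((Scheme.Modules.pullback g).obj L ≅ N) := by
  obtain ⟨𝔐, hinv, hcl⟩ := exists_system 𝓘 p h2 n hn N hN
  obtain ⟨U, E, hU, hE, ⟨ε⟩⟩ := h1.2 𝔐 fun k => H23.PullPush.isFinLocFree_of_isInvertible (hinv k)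
  let i := (𝓘 ^ (n + 1)).subschemeι
  have hrange : Set.range i = (𝓘.support : Set X) := by
    rw [Scheme.IdealSheafData.range_subschemeι, Scheme.IdealSheafData.support_pow_succ]
  let g₀ := IsOpenImmersion.lift U.ι i (by rw [hrange, Scheme.Opens.range_ι]; exact hU)
  have hg₀ : g₀ ≫ U.ι = i := IsOpenImmersion.lift_fac _ _ _
  let εn : (Scheme.Modules.pullback i).obj ((Scheme.Modules.pushforward U.ι).obj E) ≅ 𝔐.F n :=
    { hom := ε.hom.app n
      inv := ε.inv.app n
      hom_inv_id := congrArg (fun f => FSch.ModSys.Hom.app f n) ε.hom_inv_id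
      inv_hom_id := congrArg (fun f => FSch.ModSys.Hom.app f n) ε.inv_hom_id }
  have hEN : PicF.pullCl g₀ (PicF.cl E) = PicF.cl N := by
    have h : PicF.pullCl U.ι (PicF.cl ((Scheme.Modules.pushforward U.ι).obj E)) = PicF.cl E :=
      (cl_eq_iff.2 ⟨((Scheme.Modules.restrictFunctorIsoPullback U.ι).app _).symm ≪≫
        ParaFX.restrictPushforward U.ι E⟩ : _)
    rw [← h, PicClLib.pullCl_comp, hg₀, ← hcl]
    exact cl_eq_iff.2 ⟨εn⟩
  obtain ⟨eN⟩ := cl_eq_iff.1 hEN
  let V₀ : (U : Scheme.{u}).Opens :=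
    ⟨(fun z => Module.finrank (U.toScheme.presheaf.stalk z) (E.presheaf.stalk z)) ⁻¹' {1},
      QCoh.isLocallyConstant_rank hE {1}⟩
  let V : X.Opens := U.ι ''ᵁ V₀
  have hg₀V : ∀ z, g₀ z ∈ V₀ := fun z => by
    show Module.finrank _ _ = 1
    rw [← RGLib.Lim8.finrank_stalk_pullback g₀ hE z]
    exact (ConsPropLib.isFinLocFreeOfRank_iff.1 ((ConsPropLib.isFinLocFreeOfRank_iso eN).2
      (InvEnd.isFinLocFreeOfRank_one hN))).2 z
  let w : (V : Scheme.{u}) ⟶ U := X.homOfLE (U.ι_image_le V₀)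
  let L := (Scheme.Modules.pullback w).obj E
  have hV : (𝓘.support : Set X) ⊆ (V : Set X) := fun x hx => by
    rw [← hrange] at hx
    obtain ⟨z, rfl⟩ := hx
    exact ⟨g₀ z, hg₀V z, congrArg (fun f : (𝓘 ^ (n + 1)).subscheme ⟶ X => f z) hg₀⟩
  let g := IsOpenImmersion.lift V.ι i (by rw [hrange, Scheme.Opens.range_ι]; exact hV)
  have hL : PicF.IsInvertible L := by
    refine CurveDuality.isInvertible_of_rank_one (ConsPropLib.isFinLocFreeOfRank_iff.2
      ⟨KFlatLib.isFinLocFree_pullback w hE, fun z => ?_⟩)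
    rw [RGLib.Lim8.finrank_stalk_pullback w hE z]
    obtain ⟨v, hv, hvz⟩ := z.2
    have hwz : w z = v := U.ι.isOpenEmbedding.injective (by
      rw [← Scheme.Hom.comp_apply, Scheme.homOfLE_ι]; exact hvz.symm)
    rw [hwz]
    exact hv
  refine ⟨V, L, g, hV, IsOpenImmersion.lift_fac _ _ _, hL, cl_eq_iff.1 ?_⟩
  show PicF.pullCl g (PicF.pullCl w (PicF.cl E)) = PicF.cl N
  rw [PicClLib.pullCl_comp, show g ≫ w = g₀ by
    rw [← cancel_mono U.ι, Category.assoc, Scheme.homOfLE_ι, IsOpenImmersion.lift_fac, hg₀], hEN]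

end Groth.Agent.LefLib
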