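import Groth.Agent.LefLib.Dual
import Groth.Agent.FComplLib.IdealComap
import Groth.Agent.PerfGen7.ResDescend
import Groth.Agent.ModPairLib.Basic

/-!
# The Lefschetz property passes to finite locally free covers
-/

set_option linter.style.haveILetI false
set_option linter.unusedSectionVars false
set_option backward.isDefEq.respectTransparency false
set_option backward.isDefEq.respectTransparency.types false

universe u

open CategoryTheory CategoryTheory.Limits AlgebraicGeometry TopologicalSpace Opposite MonoidalCategory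
open scoped TensorProduct

noncomputable section

namespace Groth.Agent.LefLib

open Groth.Agent Groth.Agent.AmpleVan Groth.Agent.H23.PicMul

variable {X : Scheme.{u}}

/-- Two epimorphisms with the same kernels on stalks have isomorphic targets. -/
theorem exists_iso_under {E A B : X.Modules} (a : E ⟶ A) (b : E ⟶ B) [Epi a] [Epi b]
    (h : ∀ (x : X) v, (DerSch.stalkFunctor X x).map a v = 0 ↔ (DerSch.stalkFunctor X x).map b v = 0) :
    ∃ κ : A ≅ B, a ≫ κ.hom = b := by
  have key : ∀ {A' B' : X.Modules} (a' : E ⟶ A') (b' : E ⟶ B'),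
      (∀ (x : X) v, (DerSch.stalkFunctor X x).map a' v = 0 → (DerSch.stalkFunctor X x).map b' v = 0) →
      kernel.ι a' ≫ b' = 0 := fun {A' B'} a' b' hab => DepthTwist.hom_ext_stalk _ _ fun x => by
    rw [Functor.map_comp, Functor.map_zero]
    ext v
    refine hab x _ ?_
    have e : (DerSch.stalkFunctor X x).map (kernel.ι a') ≫ (DerSch.stalkFunctor X x).map a' = 0 := by
      rw [← Functor.map_comp, kernel.condition, Functor.map_zero]
    exact congrArg (fun f => (ModuleCat.Hom.hom f) v) e
  let f := Abelian.epiDesc a b (key a b fun x v => (h x v).1)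
  let g := Abelian.epiDesc b a (key b a fun x v => (h x v).2)
  have hf : a ≫ f = b := Abelian.comp_epiDesc _ _ _
  have hg : b ≫ g = a := Abelian.comp_epiDesc _ _ _
  refine ⟨⟨f, g, (cancel_epi a).1 ?_, (cancel_epi b).1 ?_⟩, hf⟩
  · rw [← Category.assoc, hf, hg, Category.comp_id]
  · rw [← Category.assoc, hg, hf, Category.comp_id]

/-- Twisting a quotient map of the structure module: surjectivity and kernels. -/
theorem twist_quot (E : X.Modules) (D : X.IdealSheafData) :
    Epi ((tw E).map (ClSub.toSubscheme D)) ∧ ∀ (W : X.affineOpens) (x : X) (hx : x ∈ W.1) v,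
      (DerSch.stalkFunctor X x).map ((tw E).map (ClSub.toSubscheme D)) v = 0 ↔
        v ∈ DepthTwist.stI D W hx • (⊤ : Submodule (X.presheaf.stalk x)
          ((DerSch.stalkFunctor X x).obj ((tw E).obj (Coh.structureModule X)))) := by
  let T := (DCoh.tensorBi (X := X)).obj E
  let ψ : tw E ≅ T := (KFlatLib.tensorBiFlipIso X).app E
  let hc := (CokernelCofork.ofπ (ClSub.toSubscheme D) (kernel.condition (ClSub.toSubscheme D))).mapIsColimit
    (IntSym.shortExact_toSubscheme D).gIsCokernel T
  haveI : Epi (T.map (ClSub.toSubscheme D)) := by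
    haveI := CurvePoint.epi_toSubscheme D
    exact inferInstance
  have hexact : (ShortComplex.mk (T.map (ClSub.idealModι D)) (T.map (ClSub.toSubscheme D))
      (by rw [← Functor.map_comp, show ClSub.idealModι D ≫ ClSub.toSubscheme D = 0 from kernel.condition _,
        Functor.map_zero])).Exact := ShortComplex.exact_of_g_is_cokernel _ hc
  have hepi : Epi ((tw E).map (ClSub.toSubscheme D)) := by
    have e : (tw E).map (ClSub.toSubscheme D) = ψ.hom.app _ ≫ T.map (ClSub.toSubscheme D) ≫ ψ.inv.app _ := by
      rw [← ψ.hom.naturality_assoc, ψ.hom_inv_id_app, Category.comp_id]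
    rw [e]
    infer_instance
  refine ⟨hepi, fun W x hx v => ?_⟩
  let Φ := DerSch.stalkFunctor X x
  let φ := ClSub.idealModι D
  have h := KFlatLib.stalkTensorIso_naturality (x := x) (𝟙 E) φ
  rw [(DerSch.stalkFunctor X x).map_id, CategoryTheory.Functor.map_id, NatTrans.id_app,
    Category.id_comp, MonoidalCategory.id_tensorHom] at h
  have h' : ((KFlatLib.stalkTensorIso x E (Coh.structureModule X)).toLinearEquiv.toLinearMap).comp
      ((Φ.map φ).hom.lTensor (Φ.obj E)) = (Φ.map (T.map φ)).hom.comp
        (KFlatLib.stalkTensorIso x E (ClSub.idealMod D)).toLinearEquiv.toLinearMap :=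
    LinearMap.ext fun t => congrArg (fun ψ => ψ.hom t) h
  have hT : LinearMap.range (Φ.map (T.map φ)).hom = DepthTwist.stI D W hx • ⊤ := by
    have h1 := congrArg LinearMap.range h'
    rw [LinearMap.range_comp, LinearMap.range_comp, LinearEquiv.range, Submodule.map_top,
      DepthTwist.range_lTensor_eq_smul_top _ _ (DepthTwist.range_idealModι D W hx), Submodule.map_smul'',
      Submodule.map_top, LinearEquiv.range] at h1
    exact h1.symm
  have hk : LinearMap.ker (Φ.map (T.map (ClSub.toSubscheme D))).hom = DepthTwist.stI D W hx • ⊤ := by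
    rw [← hT]
    exact ((ShortComplex.moduleCat_exact_iff_range_eq_ker _).1 (hexact.map Φ)).symm
  let e := ((Φ.mapIso (ψ.app (Coh.structureModule X))).toLinearEquiv)
  have hψ : ((tw E).map (ClSub.toSubscheme D)) ≫ ψ.hom.app _ = ψ.hom.app _ ≫ T.map (ClSub.toSubscheme D) :=
    ψ.hom.naturality _
  have hinj : Function.Injective (Φ.map (ψ.hom.app (ClSub.quotMod D))) :=
    (ConcreteCategory.bijective_of_isIso _).1
  rw [← map_eq_zero_iff (Φ.map (ψ.hom.app (ClSub.quotMod D))).hom hinj, ← ConcreteCategory.comp_apply,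
    ← Functor.map_comp, hψ, Functor.map_comp, ConcreteCategory.comp_apply]
  have h2 : DepthTwist.stI D W hx • (⊤ : Submodule (X.presheaf.stalk x) (Φ.obj ((tw E).obj (Coh.structureModule X)))) =
      (DepthTwist.stI D W hx • (⊤ : Submodule (X.presheaf.stalk x) (Φ.obj (T.obj (Coh.structureModule X))))).comap
        e.toLinearMap := by
    rw [Submodule.comap_equiv_eq_map_symm, Submodule.map_smul'', Submodule.map_top, LinearEquiv.range]
  rw [h2, ← hk]
  rfl

variable {W : Scheme.{u}} (π : W ⟶ X) [IsAffineHom π]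

/-- Pushing forward a quotient map of the structure module: surjectivity and kernels. -/
theorem push_quot (D : X.IdealSheafData) :
    Epi ((Scheme.Modules.pushforward π).map (ClSub.toSubscheme (D.comap π))) ∧
      ∀ (V : X.affineOpens) (x : X) (hx : x ∈ V.1) v,
      (DerSch.stalkFunctor X x).map ((Scheme.Modules.pushforward π).map (ClSub.toSubscheme (D.comap π))) v = 0 ↔
        v ∈ DepthTwist.stI D V hx • (⊤ : Submodule (X.presheaf.stalk x)
          ((DerSch.stalkFunctor X x).obj ((Scheme.Modules.pushforward π).obj (Coh.structureModule W)))) := by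
  let J := D.comap π
  let P := (Scheme.Modules.pushforward π).obj (Coh.structureModule W)
  let b := (Scheme.Modules.pushforward π).map (ClSub.toSubscheme J)
  refine ⟨HomShX.epi_of_stalk _ fun x q => ?_, fun V x hx v => ?_⟩
  · obtain ⟨U, hxU, s, rfl⟩ := TopCat.Presheaf.exists_germ_eq
      ((Scheme.Modules.pushforward π).obj (ClSub.quotMod J)).presheaf q
    obtain ⟨_, ⟨V, hV, rfl⟩, hxV, hVU⟩ :=
      X.isBasis_affineOpens.exists_subset_of_mem_open (show x ∈ U from hxU) U.2
    have hle : V ≤ U := hVU
    rw [← TopCat.Presheaf.germ_res_apply ((Scheme.Modules.pushforward π).obj (ClSub.quotMod J)).presheaf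
      (homOfLE hle) x hxV s]
    obtain ⟨r, hr⟩ := J.subschemeι_app_surjective ⟨π ⁻¹ᵁ V, hV.preimage π⟩
      (show Γ(J.subscheme, J.subschemeι ⁻¹ᵁ (π ⁻¹ᵁ V)) from
        ((Scheme.Modules.pushforward π).obj (ClSub.quotMod J)).presheaf.map (homOfLE hle).op s)
    refine ⟨P.presheaf.germ V x hxV r, ?_⟩
    rw [RefHull.stalkMapₗ_germ]
    exact congrArg _ hr
  · constructor
    · intro hv
      obtain ⟨U, hxU, a, rfl⟩ := TopCat.Presheaf.exists_germ_eq P.presheaf v
      have hv' : ((Scheme.Modules.pushforward π).obj (ClSub.quotMod J)).presheaf.germ U x hxU (b.app U a) = 0 :=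
        (DerSch.stalkFunctor_map_germ x b U hxU a).symm.trans hv
      obtain ⟨U', hxU', i, _, hi⟩ := TopCat.Presheaf.germ_eq (C := AddCommGrpCat.{u})
        ((Scheme.Modules.pushforward π).obj (ClSub.quotMod J)).presheaf x hxU hxU _ 0 (hv'.trans (map_zero _).symm)
      obtain ⟨_, ⟨O, hO, rfl⟩, hxO, hOle⟩ := X.isBasis_affineOpens.exists_subset_of_mem_open
        (show x ∈ U' ⊓ V.1 from ⟨hxU', hx⟩) (U' ⊓ V.1).isOpen
      have hOU : O ≤ U := le_trans (le_trans hOle inf_le_left) (leOfHom i)
      have hOV : O ≤ V.1 := le_trans hOle inf_le_right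
      rw [← TopCat.Presheaf.germ_res_apply P.presheaf (homOfLE hOU) x hxO a]
      set a' : Γ(W, π ⁻¹ᵁ O) := P.presheaf.map (homOfLE hOU).op a with ha'
      have h0 : (ClSub.toSubscheme J).app (π ⁻¹ᵁ O) a' = 0 := by
        show b.app O (P.presheaf.map (homOfLE hOU).op a) = 0
        rw [QCoh.map_app_comm b (homOfLE hOU) a]
        have hsplit : (homOfLE hOU).op = i.op ≫ (homOfLE (le_trans hOle inf_le_left : O ≤ U')).op := rfl
        rw [hsplit, Functor.map_comp, ConcreteCategory.comp_apply, hi, map_zero, map_zero]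
      have hmem : a' ∈ (D.ideal ⟨O, hO⟩).map (π.app O).hom := by
        have h1 := (IntSym.QuotTensor.toSub_app_eq_zero J (hO.preimage π) a').1 h0
        rw [ModPairLib.ideal_comap D π ⟨O, hO⟩ ⟨π ⁻¹ᵁ O, hO.preimage π⟩ le_rfl] at h1
        rwa [← Scheme.Hom.app_eq_appLE] at h1
      have hDO : (D.ideal ⟨O, hO⟩).map (X.presheaf.germ O x hxO).hom ≤ DepthTwist.stI D V hx := by
        rw [← D.map_ideal (U := ⟨O, hO⟩) (V := V) hOV, Ideal.map_map]
        refine le_of_eq ?_
        unfold DepthTwist.stI
        congr 1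
        exact congrArg CommRingCat.Hom.hom (X.presheaf.germ_res (homOfLE hOV) x hxO)
      have key : ∀ p ∈ (D.ideal ⟨O, hO⟩).map (π.app O).hom, ∀ d : Γ(W, π ⁻¹ᵁ O),
          P.presheaf.germ O x hxO (d * p : Γ(W, π ⁻¹ᵁ O)) ∈
            DepthTwist.stI D V hx • (⊤ : Submodule (X.presheaf.stalk x) ((DerSch.stalkFunctor X x).obj P)) := by
        intro p hp
        induction hp using Submodule.span_induction with
        | zero => intro d; rw [mul_zero]; exact (map_zero (P.presheaf.germ O x hxO).hom).symm ▸ zero_mem _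
        | add p q _ _ hp hq =>
          intro d
          rw [mul_add]
          exact (map_add (P.presheaf.germ O x hxO).hom (d * p) (d * q)).symm ▸ add_mem (hp d) (hq d)
        | smul c p _ hp => intro d; rw [smul_eq_mul, ← mul_assoc]; exact hp _
        | mem p hp =>
          intro d
          obtain ⟨c, hc, rfl⟩ := hp
          have e : P.presheaf.germ O x hxO (d * (π.app O).hom c : Γ(W, π ⁻¹ᵁ O)) =
              X.presheaf.germ O x hxO c • P.presheaf.germ O x hxO d := by
            rw [← QCoh.germ_smul' P hxO]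
            exact congrArg (P.presheaf.germ O x hxO) (mul_comm d ((π.app O).hom c))
          rw [e]
          exact Submodule.smul_mem_smul (hDO (Ideal.mem_map_of_mem _ hc)) Submodule.mem_top
      have h1 := key a' hmem 1
      rwa [one_mul] at h1
    · intro hv
      refine Submodule.smul_induction_on hv (fun r hr n _ => ?_) (fun p q hp hq => ?_)
      · rw [map_smul]
        obtain ⟨U, hxU, e, rfl⟩ := TopCat.Presheaf.exists_germ_eq P.presheaf n
        induction hr using Submodule.span_induction with
        | zero => rw [zero_smul]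
        | add p q _ _ hp hq => rw [add_smul, hp, hq, add_zero]
        | smul c p _ hp => rw [smul_eq_mul, mul_smul, hp, smul_zero]
        | mem p hp =>
          obtain ⟨c, hc, rfl⟩ := hp
          obtain ⟨_, ⟨O, hO, rfl⟩, hxO, hOle⟩ := X.isBasis_affineOpens.exists_subset_of_mem_open
            (show x ∈ U ⊓ V.1 from ⟨hxU, hx⟩) (U ⊓ V.1).isOpen
          have hOV : O ≤ V.1 := le_trans hOle inf_le_right
          have hOU : O ≤ U := le_trans hOle inf_le_left
          rw [← TopCat.Presheaf.germ_res_apply P.presheaf (homOfLE hOU) x hxO e,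
            ← X.presheaf.germ_res_apply (homOfLE hOV) x hxO c,
            DerSch.stalkFunctor_map_germ x b O hxO, ← QCoh.germ_smul' _ hxO, ← Scheme.Modules.Hom.app_smul]
          refine (congrArg _ (?_ : b.app O _ = 0)).trans (map_zero _)
          refine (IntSym.QuotTensor.toSub_app_eq_zero J (hO.preimage π) _).2 ?_
          rw [ModPairLib.ideal_comap D π ⟨O, hO⟩ ⟨π ⁻¹ᵁ O, hO.preimage π⟩ le_rfl, ← Scheme.Hom.app_eq_appLE]
          refine Ideal.mul_mem_right _ _ (Ideal.mem_map_of_mem _ ?_)
          exact D.ideal_le_comap_ideal (U := ⟨O, hO⟩) (V := V) hOV hc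
      · rw [map_add, hp, hq, add_zero]

end Groth.Agent.LefLib
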