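import Groth.Agent.LefLib.Connected

/-!
# Functions invertible along the closed subscheme
-/

set_option linter.style.haveILetI false
set_option linter.unusedSectionVars false
set_option backward.isDefEq.respectTransparency false
set_option backward.isDefEq.respectTransparency.types false

universe u

open CategoryTheory CategoryTheory.Limits AlgebraicGeometry TopologicalSpace Opposite

noncomputable section

namespace Groth.Agent.LefLib

open Groth.Agent

variable {U : Scheme.{u}} {𝓙 : U.IdealSheafData}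

theorem stI_le_maximal (D : U.IdealSheafData) (W : U.affineOpens) {x : U} (hx : x ∈ W.1) (hxD : x ∈ D.support) :
    DepthTwist.stI D W hx ≤ IsLocalRing.maximalIdeal (U.presheaf.stalk x) := by
  refine Ideal.map_le_iff_le_comap.2 fun b hb => ?_
  have hz := (U.mem_zeroLocus_iff _ _).1 ((D.coe_support_inter W).le ⟨hxD, hx⟩).1 b hb
  rw [Ideal.mem_comap, IsLocalRing.mem_maximalIdeal]
  exact fun hu' => hz ((U.mem_basicOpen b x hx).2 hu')

/-- A function which is a unit along the closed subscheme is a unit, under the Lefschetz property. -/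
theorem isUnit_of_germ (h : Lef.HomToFormalBijective 𝓙 (Coh.structureModule U)) (c : Γ(U, ⊤))
    (hc : ∀ z : U, z ∈ 𝓙.support → IsUnit (U.presheaf.germ ⊤ z trivial c)) : IsUnit c := by
  let R : ℕ → Type u := fun n => Γ((𝓙 ^ (n + 1)).subscheme, (𝓙 ^ (n + 1)).subschemeι ⁻¹ᵁ ⊤)
  let ρ : ∀ n, Γ(U, ⊤) →+* R n := fun n => ((𝓙 ^ (n + 1)).subschemeι.app ⊤).hom
  let Q := fun n => (Lef.quotMap (I := 𝓙 ^ (n + 1 + 1)) (J := 𝓙 ^ (n + 1)) (Lef.pow_succ_le 𝓙 n)).app ⊤
  let i := fun n => Scheme.IdealSheafData.inclusion (I := 𝓙 ^ (n + 1 + 1)) (J := 𝓙 ^ (n + 1)) (Lef.pow_succ_le 𝓙 n)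
  let Q' : ∀ n, R (n + 1) →+* R n := fun n =>
    RingHom.comp ((𝓙 ^ (n + 1)).subscheme.presheaf.map
      (eqToHom (by rw [← Scheme.Hom.comp_preimage, Scheme.IdealSheafData.inclusion_subschemeι])).op).hom
      ((i n).app _).hom
  have hρ : ∀ n r, Q' n (ρ (n + 1) r) = ρ n r := fun n r =>
    congr(($(toSubscheme_quotMap (I := 𝓙 ^ (n + 1 + 1)) (J := 𝓙 ^ (n + 1)) (Lef.pow_succ_le 𝓙 n))).app ⊤ r)
  have hu : ∀ n, IsUnit (ρ n c) := fun n => by
    refine (𝓙 ^ (n + 1)).subscheme.toRingedSpace.isUnit_of_isUnit_germ _ _ fun z hz => ?_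
    have hzs : (𝓙 ^ (n + 1)).subschemeι z ∈ 𝓙.support := by
      have h1 : (𝓙 ^ (n + 1)).subschemeι z ∈ Set.range (𝓙 ^ (n + 1)).subschemeι := ⟨z, rfl⟩
      rw [Scheme.IdealSheafData.range_subschemeι, Scheme.IdealSheafData.support_pow_succ] at h1
      exact h1
    have h2 := Scheme.Hom.germ_stalkMap_apply (𝓙 ^ (n + 1)).subschemeι ⊤ z trivial c
    exact (show _ = _ from h2) ▸ (hc _ hzs).map ((𝓙 ^ (n + 1)).subschemeι.stalkMap z).hom
  choose u hu using fun n => (hu n).exists_right_inv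
  obtain ⟨d, hd⟩ := red_surjective h u fun n => by
    have h1 : Q' n (u (n + 1)) * ρ n c = 1 := by
      rw [← hρ n c, ← map_mul, mul_comm, hu (n + 1), map_one]
    have h2 : Q' n (u (n + 1)) = u n := left_inv_eq_right_inv h1 (hu n)
    exact h2
  refine isUnit_iff_exists_inv.2 ⟨d, red_injective h _ _ fun n => ?_⟩
  show ρ n (c * d) = ρ n 1
  rw [map_mul, map_one, show ρ n d = u n from hd n, hu n]

end Groth.Agent.LefLib
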