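import Groth.Agent.LefLib.SuppOpen
import Groth.Agent.LefLib.Units
import Groth.Agent.LefLib.Restrict
import Groth.Agent.LefLib.FinLocFree
import Groth.Agent.LefLib.Formal
import Groth.Agent.TrivThick.Basic
import Groth.Agent.DualInvX.Basic

/-!
# Invertible modules trivial on a thickening, under the Lefschetz condition
-/

set_option linter.style.haveILetI false
set_option linter.unusedSectionVars false
set_option backward.isDefEq.respectTransparency false
set_option backward.isDefEq.respectTransparency.types false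

universe u

open CategoryTheory CategoryTheory.Limits AlgebraicGeometry TopologicalSpace Opposite
open Groth.Agent.H23.PicMul

noncomputable section

namespace Groth.Agent.LefLib

open Groth.Agent Groth.Agent.AmpleVan

variable {U : Scheme.{u}}

/-- A module killed by an ideal is unchanged by tensoring with the quotient. -/
theorem nonempty_quot_tensor_iso (K : U.Modules) (D : U.IdealSheafData)
    (hK : ∀ (W : U.affineOpens) (x : U) (hx : x ∈ W.1) (r : U.presheaf.stalk x) (v : K.presheaf.stalk x),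
      r ∈ DepthTwist.stI D W hx → r • v = 0) :
    Nonempty (CohB1.tensorMod (ClSub.quotMod D) K ≅ K) := by
  obtain ⟨hepi, hker⟩ := twist_quot K D
  haveI := hepi
  let b := (tw K).map (ClSub.toSubscheme D)
  haveI : Mono b := HomShX.mono_of_stalk _ fun x => by
    refine (injective_iff_map_eq_zero _).2 fun v hv => ?_
    obtain ⟨_, ⟨W, hW, rfl⟩, hx, -⟩ := U.isBasis_affineOpens.exists_subset_of_mem_open (Set.mem_univ x) isOpen_univ
    have hm := (hker ⟨W, hW⟩ x hx v).1 hv
    let e := ((DerSch.stalkFunctor U x).mapIso (SheafHomX.tenUnitIso K)).toLinearEquiv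
    have h0 : ∀ w, w ∈ DepthTwist.stI D ⟨W, hW⟩ hx • (⊤ : Submodule (U.presheaf.stalk x)
        ((DerSch.stalkFunctor U x).obj ((tw K).obj (Coh.structureModule U)))) → e w = 0 := fun w hw => by
      refine Submodule.smul_induction_on hw (fun r hr t _ => ?_) (fun p q hp hq => ?_)
      · rw [map_smul]; exact hK ⟨W, hW⟩ x hx r (e t) hr
      · rw [map_add, hp, hq, add_zero]
    exact e.injective ((h0 v hm).trans (map_zero e).symm)
  haveI : IsIso b := isIso_of_mono_of_epi b
  exact ⟨(asIso b).symm ≪≫ SheafHomX.tenUnitIso K⟩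

theorem pow_add_le (J : U.IdealSheafData) (a b : ℕ) : J ^ (a + b) ≤ J ^ a := by
  rw [pow_add]; exact mul_le_of_le_one_right' le_top

theorem stI_pow (J : U.IdealSheafData) (W : U.affineOpens) {x : U} (hx : x ∈ W.1) :
    ∀ n : ℕ, DepthTwist.stI (J ^ (n + 1)) W hx = DepthTwist.stI J W hx ^ (n + 1)
  | 0 => by rw [zero_add, pow_one, pow_one]
  | n + 1 => by
    rw [pow_succ _ (n + 1), pow_succ _ (n + 1), ← stI_pow J W hx n]
    simp only [DepthTwist.stI]
    rw [Scheme.IdealSheafData.ideal_mul, Pi.mul_apply, Ideal.map_mul]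

theorem stalk_toSub_eq_zero_iff (D : U.IdealSheafData) (W : U.affineOpens) {x : U} (hx : x ∈ W.1)
    (v : (DerSch.stalkFunctor U x).obj (Coh.structureModule U)) :
    (DerSch.stalkFunctor U x).map (ClSub.toSubscheme D) v = 0 ↔
      v ∈ DepthTwist.stI D W hx • (⊤ : Submodule (U.presheaf.stalk x)
        ((DerSch.stalkFunctor U x).obj (Coh.structureModule U))) := by
  rw [← DepthTwist.range_idealModι D W hx]
  have hS := (IntSym.shortExact_toSubscheme D).map_of_exact (DerSch.stalkFunctor U x)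
  exact ⟨fun hv => (ShortComplex.moduleCat_exact_iff _).1 hS.exact v hv, fun ⟨w, hw⟩ => hw ▸
    congrArg (fun f => (ModuleCat.Hom.hom f) w) (show (DerSch.stalkFunctor U x).map (ClSub.idealModι D) ≫
      (DerSch.stalkFunctor U x).map (ClSub.toSubscheme D) = 0 by
        rw [← Functor.map_comp, ClSub.idealModι, kernel.condition, Functor.map_zero])⟩

variable (J : U.IdealSheafData)

/-- The kernels of the transition maps are killed by the ideal. -/
theorem kernel_killed (m n : ℕ) (W : U.affineOpens) (x : U) (hx : x ∈ W.1) (r : U.presheaf.stalk x)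
    (v : (kernel (Lef.quotMap (I := J ^ (m + 1 + 1)) (J := J ^ (m + 1)) (Lef.pow_succ_le J m))).presheaf.stalk x)
    (hr : r ∈ DepthTwist.stI (J ^ (n + 1)) W hx) : r • v = 0 := by
  let Φ := DerSch.stalkFunctor U x
  let q := Lef.quotMap (I := J ^ (m + 1 + 1)) (J := J ^ (m + 1)) (Lef.pow_succ_le J m)
  haveI : Mono (Φ.map (kernel.ι q)) := inferInstance
  refine (ModuleCat.mono_iff_injective (Φ.map (kernel.ι q))).1 inferInstance ?_
  refine (LinearMap.map_smul (Φ.map (kernel.ι q)).hom r v).trans (Eq.trans ?_ (map_zero _).symm)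
  haveI := CurvePoint.epi_toSubscheme (J ^ (m + 1 + 1))
  obtain ⟨a, ha⟩ := (ModuleCat.epi_iff_surjective (Φ.map (ClSub.toSubscheme (J ^ (m + 1 + 1))))).1
    inferInstance (Φ.map (kernel.ι q) v)
  have h0 : Φ.map (ClSub.toSubscheme (J ^ (m + 1))) a = 0 := by
    rw [← toSubscheme_quotMap (I := J ^ (m + 1 + 1)) (J := J ^ (m + 1)) (Lef.pow_succ_le J m), Functor.map_comp,
      ConcreteCategory.comp_apply, ha]
    exact congrArg (fun f => (ModuleCat.Hom.hom f) v) (show Φ.map (kernel.ι q) ≫ Φ.map q = 0 by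
      rw [← Functor.map_comp, kernel.condition, Functor.map_zero])
  rw [← ha, ← LinearMap.map_smul]
  refine (stalk_toSub_eq_zero_iff (J ^ (m + 1 + 1)) W hx _).2 ?_
  have hmem := Submodule.smul_mem_smul hr ((stalk_toSub_eq_zero_iff (J ^ (m + 1)) W hx a).1 h0)
  rw [← Submodule.mul_smul, stI_pow, stI_pow, ← pow_add] at hmem
  rw [stI_pow]
  exact Submodule.smul_mono (Ideal.pow_le_pow_right (by omega)) le_rfl hmem

variable {M M' : U.Modules}

/-- Lifting a trivialization on a thickening to a morphism into the structure module. -/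
theorem exists_lift (h : Lef.HomToFormalBijective J M) (hM' : PicF.IsInvertible M')
    (hinv : PicF.cl M * PicF.cl M' = 1) (n : ℕ)
    (hH : ∀ m, n ≤ m → Subsingleton (Coh.HH U (kernel (Lef.quotMap (I := J ^ (m + 1 + 1)) (J := J ^ (m + 1)) (Lef.pow_succ_le J m))) 1))
    (htriv : PicF.cl (ClSub.quotMod (J ^ (n + 1))) * PicF.cl M' = PicF.cl (ClSub.quotMod (J ^ (n + 1))))
    (y₀ : M ⟶ ClSub.quotMod (J ^ (n + 1))) :
    ∃ φ : M ⟶ Coh.structureModule U, φ ≫ ClSub.toSubscheme (J ^ (n + 1)) = y₀ := by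
  haveI := isEquivalence_tw hM'
  let T := tw M'
  haveI : T.Additive := Functor.additive_of_preserves_binary_products _
  obtain ⟨e⟩ : Nonempty (T.obj M ≅ Coh.structureModule U) := cl_eq_iff.1 (by
    show PicF.cl (CohB1.tensorMod M M') = _
    rw [cl_tensor, hinv, H23.PicMul.one_def])
  have lift : ∀ d, ∀ y : M ⟶ ClSub.quotMod (J ^ (n + d + 1)), ∃ y' : M ⟶ ClSub.quotMod (J ^ (n + d + 1 + 1)),
      y' ≫ Lef.quotMap (I := J ^ (n + d + 1 + 1)) (J := J ^ (n + d + 1)) (Lef.pow_succ_le J (n + d)) = y := by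
    intro d y
    let q := Lef.quotMap (I := J ^ (n + d + 1 + 1)) (J := J ^ (n + d + 1)) (Lef.pow_succ_le J (n + d))
    haveI : Epi q := by
      haveI := CurvePoint.epi_toSubscheme (J ^ (n + d + 1))
      haveI : Epi (ClSub.toSubscheme (J ^ (n + d + 1 + 1)) ≫ q) := by
        rw [toSubscheme_quotMap]; infer_instance
      exact epi_of_epi (ClSub.toSubscheme (J ^ (n + d + 1 + 1))) q
    let S := ShortComplex.mk (kernel.ι q) q (kernel.condition q)
    have hS : S.ShortExact := { exact := ShortComplex.exact_of_f_is_kernel _ (kernelIsKernel q) }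
    obtain ⟨c⟩ := nonempty_quot_tensor_iso (kernel q) (J ^ (n + 1)) fun W x hx r v hr =>
      kernel_killed J (n + d) n W x hx r v hr
    have hK : Subsingleton (Coh.HH U (T.obj (kernel q)) 1) := by
      obtain ⟨u⟩ : Nonempty (kernel q ≅ T.obj (kernel q)) := cl_eq_iff.1 (by
        show _ = PicF.cl (CohB1.tensorMod (kernel q) M')
        rw [cl_tensor, ← cl_eq_iff.2 ⟨c⟩, cl_tensor, mul_right_comm, htriv])
      exact QCoh.subsingleton_HH_of_iso u 1 (hH (n + d) (by omega))
    obtain ⟨r, hr⟩ := QCoh.app_top_surjective_of_HH_one (hS.map_of_exact T) hK (InvX.one (e.inv ≫ T.map y))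
    refine ⟨T.preimage (e.hom ≫ InvX.ofSect (M := T.obj (ClSub.quotMod (J ^ (n + d + 1 + 1)))) r),
      T.map_injective ?_⟩
    rw [Functor.map_comp, Functor.map_preimage, Category.assoc, ← Iso.eq_inv_comp]
    refine S10945.hom_ext_top ?_
    rw [one_comp, InvX.one_ofSect]
    exact hr
  choose g hg using lift
  let z : ∀ d, M ⟶ ClSub.quotMod (J ^ (n + d + 1)) := fun d => Nat.rec (motive := fun d =>
    M ⟶ ClSub.quotMod (J ^ (n + d + 1))) y₀ (fun d y => g d y) d
  have hz : ∀ d, z (d + 1) ≫ Lef.quotMap (I := J ^ (n + d + 1 + 1)) (J := J ^ (n + d + 1)) (Lef.pow_succ_le J (n + d)) = z d :=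
    fun d => hg d (z d)
  have hle : ∀ k, J ^ (n + k + 1) ≤ J ^ (k + 1) := fun k => by
    rw [show n + k + 1 = k + 1 + n by omega]; exact pow_add_le J _ _
  have hcomp : ∀ {A B C : U.IdealSheafData} (h₁ : A ≤ B) (h₂ : B ≤ C),
      Lef.quotMap h₁ ≫ Lef.quotMap h₂ = Lef.quotMap (h₁.trans h₂) := fun {A B C} h₁ h₂ => by
    haveI := CurvePoint.epi_toSubscheme A
    rw [← cancel_epi (ClSub.toSubscheme A), ← Category.assoc, toSubscheme_quotMap, toSubscheme_quotMap,
      toSubscheme_quotMap]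
  obtain ⟨φ, hφ⟩ := h.2 (fun k => z k ≫ Lef.quotMap (hle k)) fun k => by
    show (z (k + 1) ≫ Lef.quotMap (I := J ^ (n + k + 1 + 1)) (J := J ^ (k + 1 + 1)) (hle (k + 1))) ≫
      Lef.quotMap (I := J ^ (k + 1 + 1)) (J := J ^ (k + 1)) (Lef.pow_succ_le J k) = z k ≫ Lef.quotMap (hle k)
    rw [← hz k, Category.assoc, Category.assoc, hcomp, hcomp]
  refine ⟨φ, ?_⟩
  have hdown : ∀ k, z k ≫ Lef.quotMap (I := J ^ (n + k + 1)) (J := J ^ (n + 1))
      (by rw [show n + k + 1 = n + 1 + k by omega]; exact pow_add_le J _ _) = y₀ := by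
    intro k
    induction k with
    | zero =>
      have hid : Lef.quotMap (I := J ^ (n + 0 + 1)) (J := J ^ (n + 1)) le_rfl = 𝟙 _ := by
        haveI := CurvePoint.epi_toSubscheme (J ^ (n + 1))
        rw [← cancel_epi (ClSub.toSubscheme (J ^ (n + 1))), toSubscheme_quotMap]
        exact (Category.comp_id _).symm
      rw [show Lef.quotMap (I := J ^ (n + 0 + 1)) (J := J ^ (n + 1)) _ = 𝟙 _ from hid]
      exact Category.comp_id _
    | succ k ih =>
      refine Eq.trans ?_ ih
      rw [← hz k, Category.assoc, hcomp]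
  exact (hφ n).trans (hdown n)

/-- A lift of an epimorphism onto a thickening is surjective along the closed subscheme. -/
theorem surjective_of_lift (n : ℕ) (φ : M ⟶ Coh.structureModule U)
    [Epi (φ ≫ ClSub.toSubscheme (J ^ (n + 1)))] (x : U) (hx : x ∈ J.support) :
    Function.Surjective ((DerSch.stalkFunctor U x).map φ) := by
  obtain ⟨_, ⟨W, hW, rfl⟩, hxW, -⟩ := U.isBasis_affineOpens.exists_subset_of_mem_open (Set.mem_univ x) isOpen_univ
  let Φ := DerSch.stalkFunctor U x
  haveI : Epi (Φ.map (φ ≫ ClSub.toSubscheme (J ^ (n + 1)))) := inferInstance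
  obtain ⟨v, hv⟩ := (ModuleCat.epi_iff_surjective _).1 ‹Epi (Φ.map (φ ≫ ClSub.toSubscheme (J ^ (n + 1))))›
    (Φ.map (ClSub.toSubscheme (J ^ (n + 1))) (H23.UnitSec.one x))
  have hmem : (show Φ.obj (Coh.structureModule U) from H23.UnitSec.one x) - Φ.map φ v ∈ DepthTwist.stI (J ^ (n + 1)) ⟨W, hW⟩ hxW •
      (⊤ : Submodule (U.presheaf.stalk x) (Φ.obj (Coh.structureModule U))) := by
    refine (stalk_toSub_eq_zero_iff _ ⟨W, hW⟩ hxW _).1 ?_
    rw [map_sub, sub_eq_zero, ← hv, Functor.map_comp]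
    rfl
  rw [← H23.UnitSec.span_one x, Submodule.mem_smul_span_singleton] at hmem
  obtain ⟨r, hr, hrv⟩ := hmem
  have hu : IsUnit (1 - r) := IsLocalRing.isUnit_one_sub_self_of_mem_nonunits _
    ((IsLocalRing.mem_maximalIdeal _).1 (stI_le_maximal (J ^ (n + 1)) ⟨W, hW⟩ hxW
      (by rw [Scheme.IdealSheafData.support_pow_succ]; exact hx) hr))
  intro w
  obtain ⟨b, rfl⟩ := Submodule.mem_span_singleton.1 ((H23.UnitSec.span_one x).ge (Submodule.mem_top : w ∈ ⊤))
  obtain ⟨c, hc⟩ := hu.exists_left_inv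
  refine ⟨(b * c) • v, ?_⟩
  rw [map_smul, show Φ.map φ v = (1 - r) • H23.UnitSec.one x by rw [sub_smul, one_smul, hrv, sub_sub_cancel],
    smul_smul, mul_assoc, hc, mul_one]

variable [IsLocallyNoetherian U]

/-- Triviality on a thickening gives triviality. -/
theorem trivial_of_thick (h : ∀ D : U.Modules, FlatMod.IsFinLocFree D → Lef.HomToFormalBijective J D)
    (hM : PicF.IsInvertible M) (hM' : PicF.IsInvertible M') (hinv : PicF.cl M * PicF.cl M' = 1) (n : ℕ)
    (hH : ∀ m, n ≤ m → Subsingleton (Coh.HH U (kernel (Lef.quotMap (I := J ^ (m + 1 + 1)) (J := J ^ (m + 1)) (Lef.pow_succ_le J m))) 1))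
    (htriv : PicF.cl (ClSub.quotMod (J ^ (n + 1))) * PicF.cl M = PicF.cl (ClSub.quotMod (J ^ (n + 1)))) :
    Nonempty (M ≅ Coh.structureModule U) := by
  have htriv' : PicF.cl (ClSub.quotMod (J ^ (n + 1))) * PicF.cl M' = PicF.cl (ClSub.quotMod (J ^ (n + 1))) := by
    conv_lhs => rw [← htriv, mul_assoc, hinv, mul_one]
  let D := J ^ (n + 1)
  have proj : ∀ N : U.Modules, PicF.cl (ClSub.quotMod D) * PicF.cl N = PicF.cl (ClSub.quotMod D) →
      ∃ y : N ⟶ ClSub.quotMod D, Epi y := fun N hN => by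
    obtain ⟨ε⟩ : Nonempty ((tw N).obj (ClSub.quotMod D) ≅ ClSub.quotMod D) := cl_eq_iff.1 (by
      show PicF.cl (CohB1.tensorMod _ N) = _
      rw [cl_tensor, hN])
    haveI := (twist_quot N D).1
    exact ⟨(SheafHomX.tenUnitIso N).inv ≫ (tw N).map (ClSub.toSubscheme D) ≫ ε.hom, inferInstance⟩
  obtain ⟨y, hy⟩ := proj M htriv
  obtain ⟨y', hy'⟩ := proj M' htriv'
  obtain ⟨ψ, hψ⟩ := exists_lift J (h M (H23.PullPush.isFinLocFree_of_isInvertible hM)) hM' hinv n hH htriv' y
  obtain ⟨φ, hφ⟩ := exists_lift J (h M' (H23.PullPush.isFinLocFree_of_isInvertible hM')) hM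
    (by rw [mul_comm]; exact hinv) n hH htriv y'
  haveI : Epi (φ ≫ ClSub.toSubscheme (J ^ (n + 1))) := hφ.symm ▸ hy'
  haveI : Epi (ψ ≫ ClSub.toSubscheme (J ^ (n + 1))) := hψ.symm ▸ hy
  obtain ⟨e⟩ : Nonempty (Coh.structureModule U ≅ (DCoh.tensorBi.obj M).obj M') := cl_eq_iff.1 (by
    rw [← H23.PicMul.one_def, ← hinv, ← cl_tensor]; rfl)
  let comp : Coh.structureModule U ⟶ Coh.structureModule U :=
    e.hom ≫ (DCoh.tensorBi.obj M).map φ ≫ (KFlatLib.tensorUnitIso M).hom ≫ ψ
  let c : Γ(U, ⊤) := InvX.one comp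
  have hstalk : ∀ z, (DerSch.stalkFunctor U z).map comp (H23.UnitSec.one z) =
      U.presheaf.germ ⊤ z trivial c • H23.UnitSec.one z := fun z => by
    rw [H23.UnitSec.germ_smul_one]
    refine Eq.trans ?_ (DerSch.stalkFunctor_map_germ z comp ⊤ trivial (H23.UnitSec.oneG ⊤))
    congr 1
  have hcompY : ∀ z : U, z ∈ J.support → Function.Surjective ((DerSch.stalkFunctor U z).map comp) := fun z hz => by
    obtain ⟨ε⟩ := H23.InvStalk.exists_stalk_equiv hM z
    have ha := ConcreteCategory.bijective_of_isIso ((DerSch.stalkFunctor U z).map e.hom)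
    have hb := ConcreteCategory.bijective_of_isIso ((DerSch.stalkFunctor U z).map (KFlatLib.tensorUnitIso M).hom)
    show Function.Surjective ((DerSch.stalkFunctor U z).map
      (e.hom ≫ (DCoh.tensorBi.obj M).map φ ≫ (KFlatLib.tensorUnitIso M).hom ≫ ψ))
    rw [Functor.map_comp, Functor.map_comp, Functor.map_comp]
    exact (((surjective_of_lift J n ψ z hz).comp hb.2).comp
      ((H23.InvStalk.stalk_tensor_map_surjective_iff φ z ε).2 (surjective_of_lift J n φ z hz))).comp ha.2
  have hc : IsUnit c := isUnit_of_germ (h _ isFinLocFree_structureModule) c fun z hz => by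
    obtain ⟨w, hw⟩ := hcompY z hz (H23.UnitSec.one z)
    obtain ⟨b, rfl⟩ := Submodule.mem_span_singleton.1 ((H23.UnitSec.span_one z).ge (Submodule.mem_top : w ∈ ⊤))
    rw [map_smul, hstalk, smul_smul] at hw
    refine isUnit_iff_exists_inv'.2 ⟨b, sub_eq_zero.1 (H23.UnitSec.eq_zero_of_smul_one _ ?_)⟩
    rw [sub_smul, hw, one_smul, sub_self]
  haveI : Epi ψ := HomShX.epi_of_stalk _ fun z w => by
    obtain ⟨b, rfl⟩ := Submodule.mem_span_singleton.1 ((H23.UnitSec.span_one z).ge (Submodule.mem_top : w ∈ ⊤))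
    obtain ⟨d, hd⟩ := (hc.map (U.presheaf.germ ⊤ z trivial).hom).exists_left_inv
    refine ⟨(DerSch.stalkFunctor U z).map
      (e.hom ≫ (DCoh.tensorBi.obj M).map φ ≫ (KFlatLib.tensorUnitIso M).hom) ((b * d) • H23.UnitSec.one z), ?_⟩
    show (DerSch.stalkFunctor U z).map ψ ((DerSch.stalkFunctor U z).map
      (e.hom ≫ (DCoh.tensorBi.obj M).map φ ≫ (KFlatLib.tensorUnitIso M).hom) ((b * d) • H23.UnitSec.one z)) = _
    rw [← ConcreteCategory.comp_apply, ← Functor.map_comp]
    simp only [Category.assoc]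
    rw [map_smul, show (DerSch.stalkFunctor U z).map (e.hom ≫ (DCoh.tensorBi.obj M).map φ ≫
      (KFlatLib.tensorUnitIso M).hom ≫ ψ) (H23.UnitSec.one z) = _ from hstalk z, smul_smul, mul_assoc, hd, mul_one]
  haveI := isEquivalence_tw hM'
  let T := tw M'
  obtain ⟨e'⟩ : Nonempty (Coh.structureModule U ≅ T.obj M) := cl_eq_iff.1 (by
    show _ = PicF.cl (CohB1.tensorMod M M')
    rw [cl_tensor, hinv, H23.PicMul.one_def])
  haveI : IsIso (e'.hom ≫ T.map ψ) :=
    TrivThick.isIso_of_epi (InvX.isInvertible_tensorMod InvX.isInvertible_structureModule hM') _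
  haveI : IsIso (T.map ψ) := IsIso.of_isIso_comp_left e'.hom _
  haveI : IsIso ψ := isIso_of_reflects_iso ψ T
  exact ⟨asIso ψ⟩

end Groth.Agent.LefLib
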