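import Groth.Agent.LefLib.Cover
import Groth.Agent.Pi1X.FEtFull
import Groth.Agent.AmpleX.QuasiAffine

/-!
# The Lefschetz property and restriction of finite étale covers
-/

set_option linter.style.haveILetI false
set_option linter.unusedSectionVars false
set_option backward.isDefEq.respectTransparency false
set_option backward.isDefEq.respectTransparency.types false

universe u

open CategoryTheory CategoryTheory.Limits AlgebraicGeometry TopologicalSpace Opposite

noncomputable section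

namespace Groth.Agent.LefLib

open Groth.Agent Groth.Agent.H23.PicMul Groth.Agent.AmpleVan

variable {U : Scheme.{u}} {𝓙 : U.IdealSheafData}

/-- A nonempty clopen set meets the closed subscheme. -/
theorem clopen_inter_nonempty (h : Lef.HomToFormalBijective 𝓙 (Coh.structureModule U)) {S : Set U}
    (hS : IsClopen S) (hne : S.Nonempty) : (S ∩ (𝓙.support : Set U)).Nonempty := by
  by_contra hd
  obtain ⟨f, hfS, hfc⟩ := exists_glue (Q := Coh.structureModule U) (P := ⟨S, hS.isOpen⟩)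
    (P' := ⟨Sᶜ, hS.compl.isOpen⟩) (fun z => em (z ∈ S)) (H23.UnitSec.oneG ⊤) 0
    fun z h h' => absurd h h'
  have hf0 : (show Γ(U, ⊤) from f) = 0 := red_injective h _ _ fun n => eq_of_germ fun z => by
    by_cases hz : z ∈ (𝓙.support : Set U)
    · show _ = (ClSub.quotMod (𝓙 ^ (n + 1))).presheaf.germ ⊤ z trivial
        ((ClSub.toSubscheme (𝓙 ^ (n + 1))).app ⊤ (H23.UnitSec.ofFn 0))
      rw [germ_app, germ_app]
      exact congrArg ((DerSch.stalkFunctor U z).map (ClSub.toSubscheme (𝓙 ^ (n + 1))))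
        (hfc z fun hzS => hd ⟨z, hzS, hz⟩)
    · haveI := subsingleton_stalk 𝓙 n (x := z) hz
      exact Subsingleton.elim _ _
  obtain ⟨z, hz⟩ := hne
  have h1 := hfS z hz
  rw [show f = 0 from hf0, map_zero] at h1
  have h2 : (1 : U.presheaf.stalk z) • H23.UnitSec.one z = 0 := by rw [one_smul]; exact h1.symm
  exact one_ne_zero (H23.UnitSec.eq_zero_of_smul_one _ h2)

/-- A decomposition of the closed subscheme into two closed pieces lifts to the scheme. -/
theorem exists_clopen (h : Lef.HomToFormalBijective 𝓙 (Coh.structureModule U)) {A B : Set U}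
    (hA : IsClosed A) (hB : IsClosed B) (hAB : Disjoint A B) (hcov : A ∪ B = (𝓙.support : Set U)) :
    ∃ G : Set U, IsClopen G ∧ G ∩ (𝓙.support : Set U) = A := by
  let UA : U.Opens := ⟨Bᶜ, hB.isOpen_compl⟩
  let UB : U.Opens := ⟨Aᶜ, hA.isOpen_compl⟩
  have hUcov : ∀ z, z ∈ UA ∨ z ∈ UB := fun z => by
    by_cases hz : z ∈ B
    · exact Or.inr fun hzA => Set.disjoint_left.1 hAB hzA hz
    · exact Or.inl hz
  have hW : ∀ z, z ∈ UA → z ∈ UB → z ∉ 𝓙.support := fun z hzA hzB hzZ => by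
    rcases hcov.ge hzZ with h | h
    · exact hzB h
    · exact hzA h
  have hglue : ∀ n, ∃ q, _ := fun n => exists_glue (Q := ClSub.quotMod (𝓙 ^ (n + 1))) hUcov
    (red 𝓙 n ⊤ 1) (red 𝓙 n ⊤ 0) fun z hzA hzB => by
      haveI := subsingleton_stalk 𝓙 n (hW z hzA hzB)
      exact Subsingleton.elim _ _
  choose y hyA hyB using hglue
  have hcomp : ∀ n (r : Γ(U, ⊤)), (Lef.quotMap (I := 𝓙 ^ (n + 1 + 1)) (J := 𝓙 ^ (n + 1)) (Lef.pow_succ_le 𝓙 n)).app ⊤
      (red 𝓙 (n + 1) ⊤ r) = red 𝓙 n ⊤ r :=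
    fun n r => congr(($(toSubscheme_quotMap (I := 𝓙 ^ (n + 1 + 1)) (J := 𝓙 ^ (n + 1)) (Lef.pow_succ_le 𝓙 n))).app ⊤ r)
  obtain ⟨f, hf⟩ := red_surjective h y fun n => eq_of_germ fun z => by
    rw [germ_app]
    rcases hUcov z with hz | hz
    · rw [hyA _ z hz, ← germ_app, hcomp, hyA _ z hz]
    · rw [hyB _ z hz, ← germ_app, hcomp, hyB _ z hz]
  have hAt : ∀ (n : ℕ) z, z ∈ UA → (DerSch.stalkFunctor U z).map (ClSub.toSubscheme (𝓙 ^ (n + 1)))
      ((Coh.structureModule U).presheaf.germ ⊤ z trivial (H23.UnitSec.ofFn (1 - f))) = 0 := fun n z hz => by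
    rw [← germ_app]
    have e : (ClSub.toSubscheme (𝓙 ^ (n + 1))).app ⊤ (H23.UnitSec.ofFn (1 - f)) = red 𝓙 n ⊤ 1 - y n := by
      rw [← hf n]
      exact map_sub ((ClSub.toSubscheme (𝓙 ^ (n + 1))).app ⊤).hom (H23.UnitSec.ofFn 1) (H23.UnitSec.ofFn f)
    rw [e, map_sub, hyA n z hz, sub_self]
  have hBt : ∀ (n : ℕ) z, z ∈ UB → (DerSch.stalkFunctor U z).map (ClSub.toSubscheme (𝓙 ^ (n + 1)))
      ((Coh.structureModule U).presheaf.germ ⊤ z trivial (H23.UnitSec.ofFn f)) = 0 := fun n z hz => by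
    rw [← germ_app]
    show (ClSub.quotMod (𝓙 ^ (n + 1))).presheaf.germ ⊤ z trivial (red 𝓙 n ⊤ f) = 0
    rw [hf n, hyB n z hz]
    exact (congrArg _ (map_zero ((ClSub.toSubscheme (𝓙 ^ (n + 1))).app ⊤).hom)).trans (map_zero _)
  have hidem : f * (1 - f) = 0 := red_injective h _ _ fun n => eq_of_germ fun z => by
    let Φ := (DerSch.stalkFunctor U z).map (ClSub.toSubscheme (𝓙 ^ (n + 1)))
    show (ClSub.quotMod (𝓙 ^ (n + 1))).presheaf.germ ⊤ z trivial (red 𝓙 n ⊤ (f * (1 - f))) =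
      (ClSub.quotMod (𝓙 ^ (n + 1))).presheaf.germ ⊤ z trivial (red 𝓙 n ⊤ 0)
    rw [germ_app, germ_app]
    change Φ ((Coh.structureModule U).presheaf.germ ⊤ z trivial (H23.UnitSec.ofFn (f * (1 - f)))) =
      Φ ((Coh.structureModule U).presheaf.germ ⊤ z trivial (H23.UnitSec.ofFn 0))
    rw [← H23.UnitSec.germ_smul_one, ← H23.UnitSec.germ_smul_one, map_zero, zero_smul, map_zero]
    rcases hUcov z with hz | hz
    · rw [map_mul, mul_smul, map_smul, H23.UnitSec.germ_smul_one, hAt n z hz, smul_zero]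
    · rw [map_mul, mul_comm, mul_smul, map_smul, H23.UnitSec.germ_smul_one, hBt n z hz, smul_zero]
  have key : ∀ z : U, z ∉ U.basicOpen f ↔ z ∈ U.basicOpen (1 - f) := fun z => by
    rw [Scheme.mem_basicOpen_top, Scheme.mem_basicOpen_top, map_sub, map_one]
    constructor
    · exact fun h => IsLocalRing.isUnit_one_sub_self_of_mem_nonunits _ h
    · intro h h'
      have h0 := congrArg (U.presheaf.germ ⊤ z trivial).hom hidem
      rw [map_mul, map_sub, map_one, map_zero] at h0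
      rw [h'.mul_right_eq_zero.1 h0] at h
      exact not_isUnit_zero h
  have hcl : IsClopen (U.basicOpen f : Set U) := by
    refine ⟨⟨?_⟩, (U.basicOpen f).isOpen⟩
    rw [show (U.basicOpen f : Set U)ᶜ = U.basicOpen (1 - f) from Set.ext key]
    exact (U.basicOpen (1 - f)).isOpen
  refine ⟨U.basicOpen f, hcl, Set.Subset.antisymm (fun z hz => ?_) fun z hz => ⟨?_, hcov.le (Or.inl hz)⟩⟩
  · by_contra hzA
    refine not_isUnit_germ 𝓙 0 hz.2 (V := ⊤) trivial f ?_ ((Scheme.mem_basicOpen_top U _ z).1 hz.1)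
    rw [germ_app]
    exact hBt 0 z hzA
  · have h1 : ¬ IsUnit (U.presheaf.germ ⊤ z trivial (1 - f)) :=
      not_isUnit_germ 𝓙 0 (hcov.le (Or.inl hz)) (V := ⊤) trivial (1 - f) (by
        rw [germ_app]
        exact hAt 0 z fun hzB => Set.disjoint_left.1 hAB hz hzB)
    by_contra hzf
    exact h1 ((Scheme.mem_basicOpen_top U _ z).1 ((key z).1 hzf))

/-- Restriction of finite étale covers to a closed subscheme along which bundles have the Lefschetz property
is fully faithful. -/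
theorem restrict_fullyFaithful
    (h : ∀ D : U.Modules, FlatMod.IsFinLocFree D → Lef.HomToFormalBijective 𝓙 D) :
    (FEt.restrict 𝓙.subschemeι).Full ∧ (FEt.restrict 𝓙.subschemeι).Faithful := by
  have hS : ∀ C : Set U, IsClopen C → C.Nonempty → (C ∩ Set.range 𝓙.subschemeι.base).Nonempty :=
    fun C hC hne => by
      rw [𝓙.range_subschemeι]
      exact clopen_inter_nonempty (h _ isFinLocFree_structureModule) hC hne
  refine ⟨Pi1X.restrict_full _ hS fun W C hC => ?_, Pi1X.restrict_faithful _ hS⟩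
  obtain ⟨hf, het⟩ := W.prop
  haveI : IsFinite W.hom := hf
  haveI : Etale W.hom := het
  have hW := homToFormal_cover W.hom ⟨hf, inferInstance, inferInstance⟩ (𝓘 := 𝓙) h
  let j := pullback.fst W.hom 𝓙.subschemeι
  have hr : Set.range j = ↑((𝓙.comap W.hom).support) := by
    rw [Scheme.IdealSheafData.support_comap, Scheme.Pullback.range_fst, Scheme.IdealSheafData.range_subschemeι]
    rfl
  haveI : IsClosedImmersion j := inferInstance
  obtain ⟨G, hG, hGC⟩ := exists_clopen hW (A := j '' C) (B := j '' Cᶜ)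
    (j.isClosedEmbedding.isClosedMap _ hC.isClosed) (j.isClosedEmbedding.isClosedMap _ hC.compl.isClosed)
    ((Set.disjoint_image_iff j.isClosedEmbedding.injective).2 disjoint_compl_right)
    (by rw [← Set.image_union, Set.union_compl_self, Set.image_univ, hr])
  refine ⟨G, hG, Set.ext fun c => ?_⟩
  constructor
  · intro hc
    obtain ⟨c', hc', he⟩ := hGC.le ⟨hc, hr.le ⟨c, rfl⟩⟩
    exact j.isClosedEmbedding.injective he ▸ hc'
  · exact fun hc => (hGC.ge ⟨c, hc, rfl⟩).1

/-- On a noetherian quasi-affine scheme the Lefschetz property of the structure module gives it for every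
coherent module. -/
theorem homToFormal_of_quasiAffine [IsNoetherian U] [U.IsQuasiAffine]
    (h : Lef.HomToFormalBijective 𝓙 (Coh.structureModule U)) {G : U.Modules} (hG : Coh.IsCoh G) :
    Lef.HomToFormalBijective 𝓙 G := by
  have hO : CohB1.IsAmple (Coh.structureModule U) :=
    AmpleX.isAmple_of_isQuasiAffine InvX.isInvertible_structureModule
  haveI := AmpleX.isSeparated_of_isAmple hO
  have cover : ∀ H : U.Modules, Coh.IsCoh H → ∃ (P : U.Modules) (q : P ⟶ H), Epi q ∧
      FlatMod.IsFinLocFree P ∧ Lef.HomToFormalBijective 𝓙 P := fun H hH => by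
    obtain ⟨m, hm⟩ := AmpleX.eventually_generated hO hH.1 hH.2
    obtain ⟨G', φ, ι, s, hs⟩ := hm m le_rfl
    have hG' : Coh.IsCoh G' := SheafHomX.isCoh_of_iso φ.symm
      (AmpleVan.isCoh_tensor hH (AmpleVan.isCoh_invertible (InvX.isInvertible_tensorPow hO.1 m)))
    obtain ⟨c, f, hf⟩ := exists_fin_generatedBy hG' s hs
    obtain ⟨g, hg⟩ := InvX.exists_epi_freeMod hf
    obtain ⟨ψ⟩ : Nonempty (G' ≅ H) := cl_eq_iff.1 (by
      rw [cl_eq_iff.2 ⟨φ⟩, cl_tensor, cl_tensorPow, ← H23.PicMul.one_def, one_pow, mul_one])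
    exact ⟨FlatMod.freeMod U c, g ≫ ψ.hom, epi_comp _ _, KFlatLib.isFinLocFree_freeMod c,
      homToFormal_of_cofan _ (coproductIsCoproduct fun _ : Fin c => Coh.structureModule U) fun _ => h⟩
  have inj : ∀ H : U.Modules, Coh.IsCoh H → ∀ φ ψ : H ⟶ Coh.structureModule U,
      (∀ n : ℕ, φ ≫ ClSub.toSubscheme (𝓙 ^ (n + 1)) = ψ ≫ ClSub.toSubscheme (𝓙 ^ (n + 1))) → φ = ψ :=
    fun H hH φ ψ he => by
      obtain ⟨P, q, hq, -, hP⟩ := cover H hH
      exact (cancel_epi q).1 (hP.1 _ _ fun n => by rw [Category.assoc, Category.assoc, he n])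
  refine ⟨inj G hG, fun y hy => ?_⟩
  obtain ⟨P, q, hq, hPl, hP⟩ := cover G hG
  obtain ⟨φ₀, hφ₀⟩ := hP.2 (fun n => q ≫ y n) fun n => by rw [Category.assoc]; exact congrArg (q ≫ ·) (hy n)
  have hK : kernel.ι q ≫ φ₀ = 0 := inj _ (QCoh.isCoh_kernel (CurveDeg.isCoh_of_isFinLocFree hPl) hG q) _ _
    fun n => by rw [Category.assoc, hφ₀ n, ← Category.assoc, kernel.condition, zero_comp, zero_comp]
  refine ⟨Abelian.epiDesc q φ₀ hK, fun n => (cancel_epi q).1 ?_⟩
  rw [← Category.assoc, Abelian.comp_epiDesc, hφ₀ n]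

end Groth.Agent.LefLib
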