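import Groth.Agent.LefLib.Connected
import Groth.Agent.QCoh.PullbackBC
import Groth.Prelude.Def_FSch3

/-!
# Full faithfulness of completion gives the Lefschetz property
-/

set_option linter.style.haveILetI false
set_option linter.unusedSectionVars false
set_option backward.isDefEq.respectTransparency false
set_option backward.isDefEq.respectTransparency.types false

universe u

open CategoryTheory CategoryTheory.Limits AlgebraicGeometry TopologicalSpace Opposite

noncomputable section

namespace Groth.Agent.LefLib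

open Groth.Agent Scheme.Modules

/-- Transposing along a composite of two pullbacks. -/
theorem transpose_comp {A B C : Scheme.{u}} (ι : A ⟶ B) (i' : B ⟶ C) (i : A ⟶ C) (h : ι ≫ i' = i)
    (D : C.Modules) (G : A.Modules) (g : (Scheme.Modules.pullback i).obj D ⟶ G) :
    (pullbackPushforwardAdjunction i').homEquiv _ _ ((pullbackPushforwardAdjunction ι).homEquiv _ _
        ((pullbackComp ι i' ≪≫ pullbackCongr h).hom.app D ≫ g)) ≫
      (pushforwardComp ι i').hom.app G ≫ (pushforwardCongr h).hom.app G =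
      (pullbackPushforwardAdjunction i).homEquiv _ _ g := by
  subst h
  have hc : (pullbackCongr (rfl : ι ≫ i' = ι ≫ i')).hom = 𝟙 _ := rfl
  have hp : (pushforwardCongr (rfl : ι ≫ i' = ι ≫ i')).hom.app G = 𝟙 _ :=
    Scheme.Modules.hom_ext _ _ fun U => by
      rw [pushforwardCongr_hom_app_app]
      exact G.presheaf.map_id _
  rw [hp, Category.comp_id]
  simp only [Iso.trans_hom, hc, Category.comp_id]
  let a₁ := (pullbackPushforwardAdjunction i').comp (pullbackPushforwardAdjunction ι)
  let a₂ := pullbackPushforwardAdjunction (ι ≫ i')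
  have h := unit_conjugateEquiv a₁ a₂ (pullbackComp ι i').inv D
  rw [conjugateEquiv_pullbackComp_inv] at h
  have h' : a₁.unit.app D ≫ (pushforwardComp ι i').hom.app _ ≫
      (Scheme.Modules.pushforward (ι ≫ i')).map ((pullbackComp ι i').hom.app D) = a₂.unit.app D := by
    rw [← Category.assoc, h, Category.assoc, ← Functor.map_comp, Iso.inv_hom_id_app,
      CategoryTheory.Functor.map_id]
    exact Category.comp_id _
  have h1 : (pullbackPushforwardAdjunction i').homEquiv _ _ ((pullbackPushforwardAdjunction ι).homEquiv _ _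
      ((pullbackComp ι i').hom.app D ≫ g)) = a₁.homEquiv D G ((pullbackComp ι i').hom.app D ≫ g) := by
    rw [Adjunction.comp_homEquiv]
    rfl
  rw [h1, Adjunction.homEquiv_unit, Adjunction.homEquiv_unit]
  show (a₁.unit.app D ≫ _) ≫ _ = a₂.unit.app D ≫ _
  rw [Category.assoc, (pushforwardComp ι i').hom.naturality, ← h']
  simp only [Category.assoc, ← Functor.map_comp]

variable {X : Scheme.{u}}

/-- The comparison of the pulled back structure module with the structure module. -/
def u1 {A B : Scheme.{u}} (i : A ⟶ B) :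
    (Scheme.Modules.pullback i).obj (Coh.structureModule B) ⟶ Coh.structureModule A :=
  SheafOfModules.pullbackObjUnitToUnit i.toRingCatSheafHom

instance isIso_u1 {A B : Scheme.{u}} (i : A ⟶ B) : IsIso (u1 i) :=
  inferInstanceAs (IsIso (SheafOfModules.pullbackObjUnitToUnit i.toRingCatSheafHom))

theorem homEquiv_unitToUnit {A B : Scheme.{u}} (i : A ⟶ B) :
    (pullbackPushforwardAdjunction i).homEquiv _ _ (u1 i) = ClSub.unitToPush i :=
  (SheafOfModules.pullbackPushforwardAdjunction_homEquiv_pullbackObjUnitToUnit i.toRingCatSheafHom).trans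
    (by ext U s; rfl)

/-- A morphism of pulled back modules, transposed. -/
def tr {A : Scheme.{u}} (i : A ⟶ X) {F : X.Modules}
    (a : (Scheme.Modules.pullback i).obj F ⟶ (Scheme.Modules.pullback i).obj (Coh.structureModule X)) :
    F ⟶ (Scheme.Modules.pushforward i).obj (Coh.structureModule A) :=
  (pullbackPushforwardAdjunction i).homEquiv _ _ (a ≫ u1 i)

theorem tr_bijective {A : Scheme.{u}} (i : A ⟶ X) (F : X.Modules) : Function.Bijective (tr i (F := F)) := by
  exact ((pullbackPushforwardAdjunction i).homEquiv _ _).bijective.comp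
    ⟨fun a b he => (cancel_mono (u1 i)).1 he,
      fun g => ⟨g ≫ inv (u1 i), by simp⟩⟩

theorem tr_map {A : Scheme.{u}} (i : A ⟶ X) {F : X.Modules} (φ : F ⟶ Coh.structureModule X) :
    tr i ((Scheme.Modules.pullback i).map φ) = φ ≫ ClSub.unitToPush i := by
  unfold tr
  rw [(pullbackPushforwardAdjunction i).homEquiv_naturality_left φ (u1 i), homEquiv_unitToUnit]

/-- Transposition along a composite. -/
def tr2 {A B : Scheme.{u}} (ι : A ⟶ B) (i' : B ⟶ X) (i : A ⟶ X) (hι : ι ≫ i' = i) {F : X.Modules}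
    (g : (Scheme.Modules.pullback ι).obj ((Scheme.Modules.pullback i').obj F) ⟶ Coh.structureModule A) :
    F ⟶ (Scheme.Modules.pushforward i).obj (Coh.structureModule A) :=
  (pullbackPushforwardAdjunction i').homEquiv _ _ ((pullbackPushforwardAdjunction ι).homEquiv _ _ g) ≫
    (pushforwardComp ι i').hom.app _ ≫ (pushforwardCongr hι).hom.app _

theorem tr2_injective {A B : Scheme.{u}} (ι : A ⟶ B) (i' : B ⟶ X) (i : A ⟶ X) (hι : ι ≫ i' = i) (F : X.Modules) :
    Function.Injective (tr2 ι i' i hι (F := F)) := fun _ _ he =>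
  ((pullbackPushforwardAdjunction ι).homEquiv _ _).injective
    (((pullbackPushforwardAdjunction i').homEquiv _ _).injective ((cancel_mono _).1 he))

theorem tr2_map {A B : Scheme.{u}} (ι : A ⟶ B) (i' : B ⟶ X) (i : A ⟶ X) (hι : ι ≫ i' = i) {F : X.Modules}
    (c : (Scheme.Modules.pullback i').obj F ⟶ (Scheme.Modules.pullback i').obj (Coh.structureModule X)) :
    tr2 ι i' i hι ((Scheme.Modules.pullback ι).map (c ≫ u1 i') ≫ u1 ι) =
      tr i' c ≫ (Scheme.Modules.pushforward i').map (ClSub.unitToPush ι) ≫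
        (pushforwardComp ι i').hom.app _ ≫ (pushforwardCongr hι).hom.app _ := by
  unfold tr2 tr
  rw [(pullbackPushforwardAdjunction ι).homEquiv_naturality_left (c ≫ u1 i') (u1 ι), homEquiv_unitToUnit,
    (pullbackPushforwardAdjunction i').homEquiv_naturality_right (c ≫ u1 i') (ClSub.unitToPush ι), Category.assoc]

theorem tr2_comp {A B : Scheme.{u}} (ι : A ⟶ B) (i' : B ⟶ X) (i : A ⟶ X) (hι : ι ≫ i' = i) {F : X.Modules}
    (g : (Scheme.Modules.pullback i).obj F ⟶ (Scheme.Modules.pullback i).obj (Coh.structureModule X)) :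
    tr2 ι i' i hι ((pullbackComp ι i' ≪≫ pullbackCongr hι).hom.app F ≫ g ≫ u1 i) = tr i g :=
  transpose_comp ι i' i hι F _ (g ≫ u1 i)

theorem comm_of_tr2 {A B : Scheme.{u}} (ι : A ⟶ B) (i' : B ⟶ X) (i : A ⟶ X) (hι : ι ≫ i' = i) {D : X.Modules}
    (q : (Scheme.Modules.pushforward i').obj (Coh.structureModule B) ⟶ (Scheme.Modules.pushforward i).obj (Coh.structureModule A))
    (hq : q = (Scheme.Modules.pushforward i').map (ClSub.unitToPush ι) ≫
        (pushforwardComp ι i').hom.app _ ≫ (pushforwardCongr hι).hom.app _)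
    (hu : ClSub.unitToPush i' ≫ q = ClSub.unitToPush i)
    (a : (Scheme.Modules.pullback i').obj D ⟶ (Scheme.Modules.pullback i').obj (Coh.structureModule X))
    (b : (Scheme.Modules.pullback i).obj D ⟶ (Scheme.Modules.pullback i).obj (Coh.structureModule X))
    (hh : tr i' a ≫ q = tr i b) :
    (Scheme.Modules.pullback ι).map a ≫ (pullbackComp ι i' ≪≫ pullbackCongr hι).hom.app (Coh.structureModule X) =
      (pullbackComp ι i' ≪≫ pullbackCongr hι).hom.app D ≫ b := by
  subst hq
  have hO : (pullbackComp ι i' ≪≫ pullbackCongr hι).hom.app (Coh.structureModule X) ≫ u1 i =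
      (Scheme.Modules.pullback ι).map (u1 i') ≫ u1 ι := by
    refine tr2_injective ι i' i hι _ ?_
    have h1 := tr2_comp ι i' i hι (𝟙 ((Scheme.Modules.pullback i).obj (Coh.structureModule X)))
    have h2 := tr2_map ι i' i hι (𝟙 ((Scheme.Modules.pullback i').obj (Coh.structureModule X)))
    rw [Category.id_comp] at h1 h2
    have hi : ∀ {A' : Scheme.{u}} (j : A' ⟶ X),
        tr j (𝟙 ((Scheme.Modules.pullback j).obj (Coh.structureModule X))) = ClSub.unitToPush j := fun j => by
      unfold tr
      rw [Category.id_comp, homEquiv_unitToUnit]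
    rw [h1, h2, hi, hi]
    exact hu.symm
  refine (cancel_mono (u1 i)).1 (tr2_injective ι i' i hι D ?_)
  rw [Category.assoc, Category.assoc, hO, ← Functor.map_comp_assoc]
  exact (tr2_map ι i' i hι a).trans (hh.trans (tr2_comp ι i' i hι b).symm)

theorem comm_of_tr {I J : X.IdealSheafData} (h : I ≤ J) {D : X.Modules}
    (a : (Scheme.Modules.pullback I.subschemeι).obj D ⟶ (Scheme.Modules.pullback I.subschemeι).obj (Coh.structureModule X))
    (b : (Scheme.Modules.pullback J.subschemeι).obj D ⟶ (Scheme.Modules.pullback J.subschemeι).obj (Coh.structureModule X))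
    (hh : tr I.subschemeι a ≫ Lef.quotMap h = tr J.subschemeι b) :
    (Scheme.Modules.pullback (Scheme.IdealSheafData.inclusion h)).map a ≫
        (pullbackComp (Scheme.IdealSheafData.inclusion h) I.subschemeι ≪≫
          pullbackCongr (Scheme.IdealSheafData.inclusion_subschemeι h)).hom.app (Coh.structureModule X) =
      (pullbackComp (Scheme.IdealSheafData.inclusion h) I.subschemeι ≪≫
          pullbackCongr (Scheme.IdealSheafData.inclusion_subschemeι h)).hom.app D ≫ b :=
  comm_of_tr2 (Scheme.IdealSheafData.inclusion h) I.subschemeι J.subschemeι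
    (Scheme.IdealSheafData.inclusion_subschemeι h) (Lef.quotMap h) rfl (toSubscheme_quotMap h) a b hh

theorem complTransIso_eq (𝓘 : X.IdealSheafData) (n : ℕ) :
    FSch.complTransIso 𝓘 n =
      pullbackComp (Scheme.IdealSheafData.inclusion (I := 𝓘 ^ (n + 1 + 1)) (J := 𝓘 ^ (n + 1)) (Lef.pow_succ_le 𝓘 n))
          (𝓘 ^ (n + 1 + 1)).subschemeι ≪≫
        pullbackCongr (Scheme.IdealSheafData.inclusion_subschemeι (I := 𝓘 ^ (n + 1 + 1)) (J := 𝓘 ^ (n + 1)) (Lef.pow_succ_le 𝓘 n)) := rfl

/-- A compatible family of transposes is a morphism of systems. -/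
theorem compl_comm (𝓘 : X.IdealSheafData) {D : X.Modules} (n : ℕ)
    (a : (Scheme.Modules.pullback (FSch.completionToX X 𝓘 (n + 1))).obj D ⟶
      (Scheme.Modules.pullback (FSch.completionToX X 𝓘 (n + 1))).obj (Coh.structureModule X))
    (b : (Scheme.Modules.pullback (FSch.completionToX X 𝓘 n)).obj D ⟶
      (Scheme.Modules.pullback (FSch.completionToX X 𝓘 n)).obj (Coh.structureModule X))
    (hh : tr (𝓘 ^ (n + 1 + 1)).subschemeι a ≫
        Lef.quotMap (I := 𝓘 ^ (n + 1 + 1)) (J := 𝓘 ^ (n + 1)) (Lef.pow_succ_le 𝓘 n) = tr (𝓘 ^ (n + 1)).subschemeι b) :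
    (Scheme.Modules.pullback ((FSch.completionAlong X 𝓘).ι n)).map a ≫
        (FSch.complTransIso 𝓘 n).hom.app (Coh.structureModule X) =
      (FSch.complTransIso 𝓘 n).hom.app D ≫ b := by
  rw [complTransIso_eq]
  exact comm_of_tr (I := 𝓘 ^ (n + 1 + 1)) (J := 𝓘 ^ (n + 1)) (Lef.pow_succ_le 𝓘 n) a b hh

/-- Full faithfulness of the completion on bundles gives the Lefschetz property of every bundle. -/
theorem homToFormal_of_complModMap (𝓘 : X.IdealSheafData)
    (h : ∀ F G : X.Modules, FlatMod.IsFinLocFree F → FlatMod.IsFinLocFree G →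
      Function.Bijective (fun φ : F ⟶ G => FSch.complModMap 𝓘 φ))
    (D : X.Modules) (hD : FlatMod.IsFinLocFree D) : Lef.HomToFormalBijective 𝓘 D := by
  have hinv := h D (Coh.structureModule X) hD isFinLocFree_structureModule
  let i : ∀ n : ℕ, (𝓘 ^ (n + 1)).subscheme ⟶ X := fun n => (𝓘 ^ (n + 1)).subschemeι
  have hmap : ∀ n (φ : D ⟶ Coh.structureModule X), tr (i n)
      ((Scheme.Modules.pullback (i n)).map φ) = φ ≫ ClSub.toSubscheme (𝓘 ^ (n + 1)) :=
    fun n φ => tr_map (i n) φ
  refine ⟨fun φ ψ he => hinv.1 (FSch.ModSys.Hom.ext (funext fun n => ?_)), fun y hy => ?_⟩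
  · show (FSch.complModMap 𝓘 φ).app n = (FSch.complModMap 𝓘 ψ).app n
    rw [FSch.complModMap_app, FSch.complModMap_app]
    exact (tr_bijective (i n) D).1 ((hmap n φ).trans ((he n).trans (hmap n ψ).symm))
  · choose a ha using fun n => (tr_bijective (i n) D).2 (y n)
    let S : FSch.complMod 𝓘 D ⟶ FSch.complMod 𝓘 (Coh.structureModule X) :=
      ⟨a, fun n => by
        rw [FSch.complMod_e, FSch.complMod_e, Iso.app_hom, Iso.app_hom]
        exact compl_comm 𝓘 n (a (n + 1)) (a n) (by
          show tr (i (n + 1)) (a (n + 1)) ≫ _ = tr (i n) (a n)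
          rw [ha n, ha (n + 1)]
          exact hy n)⟩
    obtain ⟨φ, hφ⟩ := hinv.2 S
    refine ⟨φ, fun n => ?_⟩
    have h1 : (FSch.complModMap 𝓘 φ).app n = a n := congrArg (fun f => FSch.ModSys.Hom.app f n) hφ
    rw [FSch.complModMap_app] at h1
    exact (hmap n φ).symm.trans ((congrArg (tr (i n)) h1).trans (ha n))

end Groth.Agent.LefLib
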