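import Groth.Agent.LefLib.FinLocFree

/-!
# The Lefschetz property of a finite locally free cover
-/

set_option linter.style.haveILetI false
set_option linter.unusedSectionVars false
set_option backward.isDefEq.respectTransparency false
set_option backward.isDefEq.respectTransparency.types false

universe u

open CategoryTheory CategoryTheory.Limits AlgebraicGeometry TopologicalSpace Opposite

noncomputable section

namespace Groth.Agent.LefLib

open Groth.Agent Groth.Agent.AmpleVan Groth.Agent.H23.PicMul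

variable {X W : Scheme.{u}}

/-- A global section as a global section of the direct image. -/
def ptop (π : W ⟶ X) {M : W.Modules} (s : Γ(M, ⊤)) : Γ((Scheme.Modules.pushforward π).obj M, ⊤) := s

theorem map_ptop (π : W ⟶ X) {M N : W.Modules} (g : M ⟶ N) (s : Γ(M, ⊤)) :
    ((Scheme.Modules.pushforward π).map g).app ⊤ (ptop π s) = ptop π (g.app ⊤ s) := rfl

/-- The Lefschetz property for bundles on the base gives it for the structure module of a finite locally free
cover. -/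
theorem homToFormal_cover (π : W ⟶ X) (hπ : Mor2.IsFinLocFree π) {𝓘 : X.IdealSheafData}
    (h : ∀ D : X.Modules, FlatMod.IsFinLocFree D → Lef.HomToFormalBijective 𝓘 D) :
    Lef.HomToFormalBijective (𝓘.comap π) (Coh.structureModule W) := by
  haveI := hπ.1
  let J := 𝓘.comap π
  let P := Scheme.Modules.pushforward π
  let E : X.Modules := P.obj (Coh.structureModule W)
  have hE : FlatMod.IsFinLocFree E :=
    PerfGen7.ResDescend.isFinLocFree_pushforward π hπ isFinLocFree_structureModule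
  obtain ⟨hinj, hsurj⟩ := sections_of_homToFormal hE (h _ (PerfGen7.ResDescend.isFinLocFree_dual hE))
  obtain ⟨u⟩ : Nonempty ((tw E).obj (Coh.structureModule X) ≅ E) := cl_eq_iff.1 (by
    show PicF.cl (CohB1.tensorMod (Coh.structureModule X) E) = _
    rw [cl_tensor, ← H23.PicMul.one_def, one_mul])
  let a : ∀ n : ℕ, E ⟶ (tw E).obj (ClSub.quotMod (𝓘 ^ (n + 1))) := fun n =>
    u.inv ≫ (tw E).map (ClSub.toSubscheme (𝓘 ^ (n + 1)))
  let b : ∀ n : ℕ, E ⟶ P.obj (ClSub.quotMod (J ^ (n + 1))) := fun n =>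
    P.map (ClSub.toSubscheme (J ^ (n + 1)))
  have hκ : ∀ n, ∃ κ : (tw E).obj (ClSub.quotMod (𝓘 ^ (n + 1))) ≅ P.obj (ClSub.quotMod (J ^ (n + 1))),
      a n ≫ κ.hom = b n := fun n => by
    obtain ⟨hea, hka⟩ := twist_quot E (𝓘 ^ (n + 1))
    have hb := push_quot π (𝓘 ^ (n + 1))
    rw [FComplLib.comap_pow π 𝓘 (n + 1)] at hb
    obtain ⟨heb, hkb⟩ := hb
    haveI : Epi (a n) := epi_comp _ _
    haveI : Epi (b n) := heb
    refine exists_iso_under (a n) (b n) fun x v => ?_
    obtain ⟨_, ⟨V, hV, rfl⟩, hx, -⟩ := X.isBasis_affineOpens.exists_subset_of_mem_open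
      (Set.mem_univ x) isOpen_univ
    let Φ := DerSch.stalkFunctor X x
    let e := ((Φ.mapIso u.symm).toLinearEquiv)
    have h2 : DepthTwist.stI (𝓘 ^ (n + 1)) ⟨V, hV⟩ hx • (⊤ : Submodule (X.presheaf.stalk x) (Φ.obj E)) =
        (DepthTwist.stI (𝓘 ^ (n + 1)) ⟨V, hV⟩ hx •
          (⊤ : Submodule (X.presheaf.stalk x) (Φ.obj ((tw E).obj (Coh.structureModule X))))).comap e.toLinearMap := by
      rw [Submodule.comap_equiv_eq_map_symm, Submodule.map_smul'', Submodule.map_top, LinearEquiv.range]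
    refine Iff.trans ?_ (hkb ⟨V, hV⟩ x hx v).symm
    rw [h2, Submodule.mem_comap]
    refine Iff.trans ?_ (hka ⟨V, hV⟩ x hx _)
    show Φ.map (u.inv ≫ (tw E).map (ClSub.toSubscheme (𝓘 ^ (n + 1)))) v = 0 ↔ _
    rw [Functor.map_comp]
    rfl
  choose κ hκ using hκ
  have hq : ∀ n, (tw E).map (Lef.quotMap (I := 𝓘 ^ (n + 1 + 1)) (J := 𝓘 ^ (n + 1)) (Lef.pow_succ_le 𝓘 n)) ≫ (κ n).hom =
      (κ (n + 1)).hom ≫ P.map (Lef.quotMap (I := J ^ (n + 1 + 1)) (J := J ^ (n + 1)) (Lef.pow_succ_le J n)) :=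
    fun n => by
    haveI := (twist_quot E (𝓘 ^ (n + 1 + 1))).1
    haveI : Epi (a (n + 1)) := epi_comp _ _
    rw [← cancel_epi (a (n + 1)), ← Category.assoc, ← Category.assoc, hκ (n + 1)]
    show ((u.inv ≫ _) ≫ _) ≫ _ = _ ≫ _
    rw [Category.assoc u.inv, ← Functor.map_comp, toSubscheme_quotMap, ← Functor.map_comp, toSubscheme_quotMap]
    exact hκ n
  let S : ℕ → W.Modules := fun n => ClSub.quotMod (J ^ (n + 1))
  have htop : ∀ n, Function.Bijective ((κ n).hom.app ⊤) := fun n =>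
    ConcreteCategory.bijective_of_isIso ((Scheme.Modules.toPresheaf X).map (κ n).hom |>.app (op ⊤))
  refine ⟨fun φ ψ he => S10945.hom_ext_top ?_, fun y hy => ?_⟩
  · have hb' : ∀ n, (b n).app ⊤ (ptop π (InvX.one φ)) = (b n).app ⊤ (ptop π (InvX.one ψ)) := fun n => by
      rw [map_ptop, map_ptop, ← one_comp, ← one_comp]
      exact congrArg (fun g => ptop π (InvX.one g)) (he n)
    have key := hinj (u.inv.app ⊤ (ptop π (InvX.one φ))) (u.inv.app ⊤ (ptop π (InvX.one ψ))) fun n => (htop n).1 (by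
      have e1 : ∀ v : Γ(E, ⊤), (κ n).hom.app ⊤ (((tw E).map (ClSub.toSubscheme (𝓘 ^ (n + 1)))).app ⊤ (u.inv.app ⊤ v)) =
          (b n).app ⊤ v := fun v => congr(($(hκ n)).app ⊤ v)
      rw [e1, e1]
      exact hb' n)
    have hu : Function.Injective (u.inv.app ⊤) :=
      (ConcreteCategory.bijective_of_isIso ((Scheme.Modules.toPresheaf X).map u.inv |>.app (op ⊤))).1
    exact hu key
  · let z : ∀ n, Γ(P.obj (S n), ⊤) := fun n => ptop π (M := S n) (InvX.one (L := S n) (y n))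
    let t : ∀ n, Γ((tw E).obj (ClSub.quotMod (𝓘 ^ (n + 1))), ⊤) := fun n => (κ n).inv.app ⊤ (z n)
    have hκt : ∀ n, (κ n).hom.app ⊤ (t n) = z n := fun n => congr(($((κ n).inv_hom_id)).app ⊤ (z n))
    have hz : ∀ n, (P.map (Lef.quotMap (I := J ^ (n + 1 + 1)) (J := J ^ (n + 1)) (Lef.pow_succ_le J n))).app ⊤
        (z (n + 1)) = z n := fun n => by
      refine (map_ptop π (M := S (n + 1)) (N := S n)
        (Lef.quotMap (I := J ^ (n + 1 + 1)) (J := J ^ (n + 1)) (Lef.pow_succ_le J n)) (InvX.one (L := S (n + 1)) (y (n + 1)))).trans ?_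
      exact congrArg (fun g => ptop π (M := S n) (InvX.one (L := S n) g)) (hy n)
    obtain ⟨s, hs⟩ := hsurj t fun n => (htop n).1 (by
      have e2 : ∀ v, (κ n).hom.app ⊤ (((tw E).map (Lef.quotMap (I := 𝓘 ^ (n + 1 + 1)) (J := 𝓘 ^ (n + 1))
          (Lef.pow_succ_le 𝓘 n))).app ⊤ v) =
          (P.map (Lef.quotMap (I := J ^ (n + 1 + 1)) (J := J ^ (n + 1)) (Lef.pow_succ_le J n))).app ⊤
            ((κ (n + 1)).hom.app ⊤ v) := fun v => congr(($(hq n)).app ⊤ v)
      rw [e2, hκt (n + 1), hκt n]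
      exact hz n)
    let f : Γ(Coh.structureModule W, ⊤) := u.hom.app ⊤ s
    refine ⟨InvX.ofSect (M := Coh.structureModule W) f, fun n => S10945.hom_ext_top ?_⟩
    rw [one_comp, InvX.one_ofSect]
    have e1 : ∀ v : Γ(E, ⊤), (κ n).hom.app ⊤ (((tw E).map (ClSub.toSubscheme (𝓘 ^ (n + 1)))).app ⊤ (u.inv.app ⊤ v)) =
        (b n).app ⊤ v := fun v => congr(($(hκ n)).app ⊤ v)
    have e3 := e1 (u.hom.app ⊤ s)
    rw [show u.inv.app ⊤ (u.hom.app ⊤ s) = s from congr(($(u.hom_inv_id)).app ⊤ s), hs n, hκt n] at e3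
    exact e3.symm

end Groth.Agent.LefLib
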