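import Groth.Agent.LefLib.Formal
import Groth.Agent.ExtShX.TensorInjective
import Groth.Agent.SheafHomX.Smul
import Groth.Agent.AmpleVan.Tw

/-!
# Homomorphisms out of a dual bundle are sections of the twist by the bundle
-/

set_option linter.style.haveILetI false
set_option linter.unusedSectionVars false
set_option backward.isDefEq.respectTransparency false
set_option backward.isDefEq.respectTransparency.types false

universe u

open CategoryTheory CategoryTheory.Limits AlgebraicGeometry TopologicalSpace Opposite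

noncomputable section

namespace Groth.Agent.LefLib

open Groth.Agent Groth.Agent.AmpleVan

variable {X : Scheme.{u}}

theorem tenDualHom_tmul (E K : X.Modules) {U : X.Opens} (k : Γ(K, U)) (θ : Γ(RefHull.dual E, U)) :
    (ExtShX.tenDualHom E K).app U (QCoh.tmS K (RefHull.dual E) k θ) = HomShX.rankOne θ k :=
  H23.TensorDesc.desc_tmul (ExtShX.rankOneBilin E K) U k θ

theorem map_tensor_tmul {K K' : X.Modules} (p : K ⟶ K') (N : X.Modules) {U : X.Opens} (k : Γ(K, U)) (θ : Γ(N, U)) :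
    ((DCoh.tensorBi.map p).app N).app U (QCoh.tmS K N k θ) = QCoh.tmS K' N (p.app U k) θ :=
  KFlatLib.tmSh_naturality_left p N (U := U) k θ

theorem rankOne_postc {E K K' : X.Modules} (p : K ⟶ K') {U : X.Opens} (k : Γ(K, U)) (θ : Γ(RefHull.dual E, U)) :
    HomShX.rankOne θ (p.app U k) = (HomShX.postc E p).app U (HomShX.rankOne θ k) := by
  refine RefX.sect_ext fun y => LinearMap.ext fun z => ?_
  rw [HomShX.postc_app_val, LinearMap.comp_apply]
  show ((RefX.unitStalk y.1).symm (θ.1 y z)) • (K'.presheaf.germ U y.1 y.2) (p.app U k) =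
    RefHull.stalkMapₗ p y.1 (((RefX.unitStalk y.1).symm (θ.1 y z)) • K.presheaf.germ U y.1 y.2 k)
  rw [map_smul, RefHull.stalkMapₗ_germ]

theorem tenDualHom_natural (E : X.Modules) {K K' : X.Modules} (p : K ⟶ K') :
    (DCoh.tensorBi.map p).app (RefHull.dual E) ≫ ExtShX.tenDualHom E K' =
      ExtShX.tenDualHom E K ≫ HomShX.postc E p := by
  refine SheafHomX.tensor_hom_ext (M := K) (N := RefHull.dual E) fun U k θ => ?_
  refine Eq.trans (congrArg ((ExtShX.tenDualHom E K').app U) (map_tensor_tmul p (RefHull.dual E) k θ)) ?_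
  refine Eq.trans (tenDualHom_tmul E K' (p.app U k) θ) ?_
  refine Eq.trans (rankOne_postc p k θ) ?_
  exact (congrArg ((HomShX.postc E p).app U) (tenDualHom_tmul E K k θ)).symm

/-- The morphism out of the dual given by a global section of the twist. -/
def ofTw (E : X.Modules) {G : X.Modules} (t : Γ((tw E).obj G, ⊤)) : RefHull.dual E ⟶ G :=
  HomShX.toHom ((((DCoh.tensorBi.obj G).map (RefHull.bidualMap E)) ≫
    ExtShX.tenDualHom (RefHull.dual E) G).app ⊤ t)

theorem ofTw_natural (E : X.Modules) {G G' : X.Modules} (p : G ⟶ G') (t : Γ((tw E).obj G, ⊤)) :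
    ofTw E (((tw E).map p).app ⊤ t) = ofTw E t ≫ p := by
  let a := fun G : X.Modules => (DCoh.tensorBi.obj G).map (RefHull.bidualMap E) ≫
    ExtShX.tenDualHom (RefHull.dual E) G
  have h : (tw E).map p ≫ a G' = a G ≫ HomShX.postc (RefHull.dual E) p := by
    show (DCoh.tensorBi.map p).app E ≫ (DCoh.tensorBi.obj G').map (RefHull.bidualMap E) ≫ _ =
      ((DCoh.tensorBi.obj G).map (RefHull.bidualMap E) ≫ _) ≫ _
    rw [← Category.assoc, ← (DCoh.tensorBi.map p).naturality (RefHull.bidualMap E)]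
    simp only [Category.assoc]
    exact congrArg (_ ≫ ·) (tenDualHom_natural (RefHull.dual E) p)
  refine HomShX.ext_stalk fun x => ?_
  rw [HomShX.stalkMapₗ_comp, ofTw, ofTw, HomShX.stalkMapₗ_toHom, HomShX.stalkMapₗ_toHom]
  show ((a G').app ⊤ (((tw E).map p).app ⊤ t)).1 ⟨x, trivial⟩ = _
  rw [show (a G').app ⊤ (((tw E).map p).app ⊤ t) = (HomShX.postc (RefHull.dual E) p).app ⊤ ((a G).app ⊤ t) from
    congr(($h).app ⊤ t)]
  rfl

theorem ofTw_bijective {E : X.Modules} (hE : FlatMod.IsFinLocFree E) (G : X.Modules) :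
    Function.Bijective (ofTw E (G := G)) := by
  haveI := ExtShX.isIso_bidualMap hE
  haveI := ExtShX.isIso_tenDualHom (PerfGen7.ResDescend.isFinLocFree_dual hE) G
  let e : (tw E).obj G ≅ RefHull.homSh (RefHull.dual E) G :=
    asIso ((DCoh.tensorBi.obj G).map (RefHull.bidualMap E) ≫ ExtShX.tenDualHom (RefHull.dual E) G)
  have he : Function.Bijective (e.hom.app ⊤) :=
    ConcreteCategory.bijective_of_isIso ((Scheme.Modules.toPresheaf X).map e.hom |>.app (op ⊤))
  have ht : Function.Bijective (HomShX.toHom (F := RefHull.dual E) (G := G)) :=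
    ⟨fun g g' h => RefX.sect_ext fun x => by
      rw [← HomShX.stalkMapₗ_toHom g x.1, ← HomShX.stalkMapₗ_toHom g' x.1, h],
    fun φ => ⟨RefHull.ofHom φ ⊤, HomShX.ext_stalk fun x => by rw [HomShX.stalkMapₗ_toHom]; rfl⟩⟩
  exact ht.comp he

variable {𝓘 : X.IdealSheafData}

/-- The Lefschetz property of the dual of a bundle, in terms of global sections of the twist. -/
theorem sections_of_homToFormal {E : X.Modules} (hE : FlatMod.IsFinLocFree E)
    (h : Lef.HomToFormalBijective 𝓘 (RefHull.dual E)) :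
    (∀ s s' : Γ((tw E).obj (Coh.structureModule X), ⊤),
      (∀ n : ℕ, ((tw E).map (ClSub.toSubscheme (𝓘 ^ (n + 1)))).app ⊤ s =
        ((tw E).map (ClSub.toSubscheme (𝓘 ^ (n + 1)))).app ⊤ s') → s = s') ∧
    ∀ t : ∀ n : ℕ, Γ((tw E).obj (ClSub.quotMod (𝓘 ^ (n + 1))), ⊤),
      (∀ n, ((tw E).map (Lef.quotMap (I := 𝓘 ^ (n + 1 + 1)) (J := 𝓘 ^ (n + 1)) (Lef.pow_succ_le 𝓘 n))).app ⊤ (t (n + 1)) = t n) →
      ∃ s, ∀ n, ((tw E).map (ClSub.toSubscheme (𝓘 ^ (n + 1)))).app ⊤ s = t n := by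
  refine ⟨fun s s' he => (ofTw_bijective hE _).1 (h.1 _ _ fun n => ?_), fun t ht => ?_⟩
  · rw [← ofTw_natural, ← ofTw_natural, he n]
  · obtain ⟨φ, hφ⟩ := h.2 (fun n => ofTw E (t n)) fun n => by
      refine (ofTw_natural E (Lef.quotMap (I := 𝓘 ^ (n + 1 + 1)) (J := 𝓘 ^ (n + 1)) (Lef.pow_succ_le 𝓘 n)) (t (n + 1))).symm.trans ?_
      rw [ht n]
    obtain ⟨s, rfl⟩ := (ofTw_bijective hE _).2 φ
    exact ⟨s, fun n => (ofTw_bijective hE _).1 ((ofTw_natural E _ _).trans (hφ n))⟩

end Groth.Agent.LefLib
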