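import Groth.Agent.S15400
import Groth.Agent.LefLib.Connected
import Groth.Agent.FComplLib.IdealComap
import Groth.Agent.CohPullLib.Edge
import Groth.Agent.DerBC7.SplitPush
import Groth.Agent.H1PP.GrMap
import Groth.Agent.DescLib.IdealDescent
import Groth.Agent.PicClLib.Basic
import Groth.Agent.H23.PicMul

/-!
# Lifting invertible modules from one thickening to the next
-/

set_option linter.style.haveILetI false
set_option backward.isDefEq.respectTransparency false
set_option backward.isDefEq.respectTransparency.types false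

universe u

open CategoryTheory CategoryTheory.Limits AlgebraicGeometry TopologicalSpace Opposite
open Groth.Agent.H23.PicMul

noncomputable section

namespace Groth.Agent.LefLib

open Groth.Agent

variable {U : Scheme.{u}}

/-- Invertible modules lift along a closed immersion of square zero ideal with vanishing `H²`. -/
theorem exists_lift_of_subsingleton {X₀ X₁ : Scheme.{u}} (i : X₀ ⟶ X₁) [IsClosedImmersion i]
    (hI : i.ker * i.ker = ⊥) (H2 : Subsingleton (Coh.HH X₁ (ClSub.idealMod i.ker) 2))
    (N : X₀.Modules) (hN : PicF.IsInvertible N) :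
    ∃ N' : X₁.Modules, PicF.IsInvertible N' ∧ Nonempty ((Scheme.Modules.pullback i).obj N' ≅ N) := by
  letI := law X₁
  letI := law i.ker.subscheme
  obtain ⟨_, _, _, δ₁, -, -, -, -, -, h⟩ := S15400.result X₁ i.ker hI (pullMul _)
  let e := i.toImage
  let N₁ := (Scheme.Modules.pullback (inv e)).obj N
  have hN₁ : PicF.IsInvertible N₁ := PicClLib.isInvertible_pullback (inv e) hN
  have hmem : PicGrp.cls N₁ hN₁ ∈ δ₁.ker := by
    rw [MonoidHom.mem_ker]
    exact Multiplicative.toAdd.injective (H2.elim _ _)
  rw [h] at hmem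
  obtain ⟨⟨c, N', rfl, hN'⟩, hc⟩ := hmem
  refine ⟨N', hN', cl_eq_iff.1 ?_⟩
  have hc' : PicF.pullCl i.ker.subschemeι (PicF.cl N') = PicF.cl N₁ := congrArg Subtype.val hc
  show PicF.pullCl i (PicF.cl N') = PicF.cl N
  rw [← Scheme.Hom.toImage_imageι i, ← PicClLib.pullCl_comp, show i.imageι = i.ker.subschemeι from rfl, hc',
    show PicF.cl N₁ = PicF.pullCl (inv e) (PicF.cl N) from rfl, PicClLib.pullCl_comp, IsIso.hom_inv_id,
    PicClLib.pullCl_id]

/-- The direct image of the kernel of an inclusion of closed subschemes. -/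
theorem nonempty_push_idealMod_iso {A B : U.IdealSheafData} (h : A ≤ B) :
    Nonempty ((Scheme.Modules.pushforward A.subschemeι).obj
        (ClSub.idealMod (Scheme.IdealSheafData.inclusion h).ker) ≅ kernel (Lef.quotMap h)) := by
  let i := Scheme.IdealSheafData.inclusion h
  let e := i.toImage
  let σ : ClSub.quotMod i.ker ⟶ (Scheme.Modules.pushforward i).obj (Coh.structureModule B.subscheme) :=
    (Scheme.Modules.pushforward i.ker.subschemeι).map (ClSub.unitToPush e) ≫
      (Scheme.Modules.pushforwardComp e i.ker.subschemeι).hom.app _ ≫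
      (Scheme.Modules.pushforwardCongr (Scheme.Hom.toImage_imageι i)).hom.app _
  haveI := DerBC7.isIso_unitToPush e (fun V => inferInstance)
  haveI : IsIso σ := inferInstance
  have hσ : ClSub.toSubscheme i.ker ≫ σ = ClSub.unitToPush i := by
    refine S10945.hom_ext_top ?_
    show σ.app ⊤ ((ClSub.toSubscheme i.ker).app ⊤ (1 : Γ(A.subscheme, ⊤))) = (i.app ⊤).hom 1
    rw [show (ClSub.toSubscheme i.ker).app ⊤ (1 : Γ(A.subscheme, ⊤)) =
      (1 : Γ(i.ker.subscheme, i.ker.subschemeι ⁻¹ᵁ ⊤)) from map_one (i.ker.subschemeι.app ⊤).hom]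
    refine Eq.trans ?_ (map_one (i.app ⊤).hom).symm
    change (B.subscheme.presheaf.map _).hom ((e.app (i.ker.subschemeι ⁻¹ᵁ ⊤)).hom 1) = 1
    rw [map_one]
    exact map_one _
  let P := Scheme.Modules.pushforward A.subschemeι
  let q := P.map (ClSub.unitToPush i)
  let t : P.obj ((Scheme.Modules.pushforward i).obj (Coh.structureModule B.subscheme)) ⟶ ClSub.quotMod B :=
    (Scheme.Modules.pushforwardComp i A.subschemeι).hom.app _ ≫
      (Scheme.Modules.pushforwardCongr (Scheme.IdealSheafData.inclusion_subschemeι h)).hom.app _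
  haveI : IsIso t := inferInstance
  haveI : PreservesLimit (parallelPair (ClSub.unitToPush i) 0) P :=
    (Scheme.Modules.pullbackPushforwardAdjunction A.subschemeι).rightAdjoint_preservesLimits.preservesLimitsOfShape.preservesLimit
  exact ⟨P.mapIso ((kernelCompMono (ClSub.toSubscheme i.ker) σ).symm ≪≫ kernelIsoOfEq hσ) ≪≫
    PreservesKernel.iso P (ClSub.unitToPush i) ≪≫ (kernelCompMono q t).symm⟩

/-- Invertible modules lift to the next thickening when `H²` of the layer vanishes. -/
theorem exists_lift_inclusion {A B : U.IdealSheafData} (h : A ≤ B) (hB : B * B ≤ A)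
    (H2 : Subsingleton (Coh.HH U (kernel (Lef.quotMap h)) 2))
    (N : B.subscheme.Modules) (hN : PicF.IsInvertible N) :
    ∃ N' : A.subscheme.Modules, PicF.IsInvertible N' ∧
      Nonempty ((Scheme.Modules.pullback (Scheme.IdealSheafData.inclusion h)).obj N' ≅ N) := by
  refine exists_lift_of_subsingleton _ ?_ ?_ N hN
  · rw [FComplLib.ker_inclusion, ← FComplLib.comap_mul]
    exact le_bot_iff.1 ((Scheme.IdealSheafData.comap_mono A.subschemeι hB).trans
      (DescLib.comap_subschemeι A).le)
  · let M := ClSub.idealMod (Scheme.IdealSheafData.inclusion h).ker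
    haveI : Coh.IsQCoh M := H1PP.GrMap.isQCoh_idealMod _
    obtain ⟨e⟩ := nonempty_push_idealMod_iso h
    haveI := QCoh.subsingleton_HH_of_iso e.symm 2 H2
    exact (CohPullLib.pushEdge_bijective_of_isAffineHom A.subschemeι M 2).2.subsingleton

end Groth.Agent.LefLib
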