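import Groth.Agent.QCoh.OpenSub
import Groth.Agent.QCoh.Ab.Restrict
import Groth.Agent.QCoh.ToSheaf
import Groth.Agent.ZClosLib.Basic

/-!
# First cohomology of a module supported inside an open
-/

set_option linter.style.haveILetI false
set_option backward.isDefEq.respectTransparency false
set_option backward.isDefEq.respectTransparency.types false

universe u

open CategoryTheory CategoryTheory.Limits AlgebraicGeometry TopologicalSpace Opposite

noncomputable section

namespace Groth.Agent.LefLib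

open Groth.Agent

variable {X : Scheme.{u}}

theorem subsingleton_HU_of_isZero {Y : TopCat.{u}} {F : CohTop.Ab Y} (h : IsZero F) (n : ℕ) (W : Opens Y) :
    Subsingleton (CohTop.HU F n W) := by
  refine subsingleton_of_forall_eq 0 fun x => ?_
  have e : 𝟙 F = 0 := h.eq_of_src _ _
  let x' : Abelian.Ext (CohCx.freeSheaf (Opens.grothendieckTopology Y) W) F n := x
  have h1 := Abelian.Ext.comp_mk₀_id x'
  rw [e, Abelian.Ext.mk₀_zero, Abelian.Ext.comp_zero] at h1
  exact h1.symm

/-- Opens missing the support of a module see none of its cohomology. -/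
theorem subsingleton_HU_of_stalks (M : X.Modules) {W : X.Opens}
    (hW : ∀ z : X, z ∈ W → Subsingleton (M.presheaf.stalk z)) (n : ℕ) :
    Subsingleton (CohTop.HU (X := X.toPresheafedSpace.carrier) (QCoh.abSheaf M) n W) := by
  cases n with
  | zero =>
    haveI : Subsingleton ((QCoh.abSheaf M).obj.obj (op W)) := ⟨fun a b =>
      TopCat.Presheaf.section_ext ⟨M.presheaf, M.isSheaf⟩ W a b fun z hz => (hW z hz).elim _ _⟩
    exact (SiteBase.huZero (QCoh.abSheaf M) W).toEquiv.subsingleton
  | succ n =>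
    let hj : Topology.IsOpenEmbedding (W.inclusion') := W.isOpenEmbedding
    have hz : IsZero ((QCoh.Ab.restr hj).obj (QCoh.abSheaf M)) := by
      refine (IsZero.iff_id_eq_zero _).2 ?_
      refine Sheaf.hom_ext (NatTrans.ext (funext fun V => AddCommGrpCat.ext fun a => ?_))
      refine TopCat.Presheaf.section_ext ⟨M.presheaf, M.isSheaf⟩ _ _ _ fun z hz => ?_
      obtain ⟨v, -, rfl⟩ := hz
      exact (hW v.1 v.2).elim _ _
    have h := (QCoh.Ab.subsingleton_HU_restr_iff hj n (QCoh.abSheaf M) ⊤).1 (subsingleton_HU_of_isZero hz _ ⊤)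
    have htop : hj.isOpenMap.functor.obj ⊤ = W :=
      Opens.ext (Set.image_univ.trans Subtype.range_coe)
    rwa [htop] at h

/-- The restriction to an open containing the support keeps the vanishing of `H¹`. -/
theorem subsingleton_HH_one_restrict (U : X.Opens) (M : X.Modules) (Z : Set X) (hZ : IsClosed Z)
    (hsupp : ∀ z, z ∉ Z → Subsingleton (M.presheaf.stalk z)) (hZU : Z ⊆ (U : Set X))
    (h : Subsingleton (Coh.HH X M 1)) : Subsingleton (Coh.HH U.toScheme (M.restrict U.ι) 1) := by
  refine QCoh.subsingleton_HH_restrict U.ι M 0 ?_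
  rw [Scheme.Opens.opensRange_ι]
  let V : X.Opens := ⟨Zᶜ, hZ.isOpen_compl⟩
  let F : CohTop.Ab X.toPresheafedSpace.carrier := QCoh.abSheaf M
  let S := Opens.mayerVietorisSquare (T := X.toPresheafedSpace.carrier) U V
  have htop : U ⊔ V = (⊤ : X.Opens) := top_le_iff.1 fun z _ => by
    by_cases hz : z ∈ Z
    · exact Or.inl (hZU hz)
    · exact Or.inr hz
  have h4 : Subsingleton (CohTop.HU F 1 (U ⊔ V)) := by
    rw [htop]
    exact (SiteBase.huTerminalEquiv (T := (⊤ : X.Opens)) isTerminalTop F 1).toEquiv.subsingleton_congr.2 h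
  have h1 : Subsingleton (CohTop.HU F 1 (U ⊓ V)) :=
    subsingleton_HU_of_stalks M (W := U ⊓ V) (fun z hz => hsupp z hz.2) 1
  have hex := (S.sequence_exact F 1 2 rfl).exact 0
  rw [ShortComplex.ab_exact_iff] at hex
  refine subsingleton_of_forall_eq 0 fun a => ?_
  let b : (F.H' 1 S.X₂ ⊞ F.H' 1 S.X₃ : AddCommGrpCat.{u}) := (biprod.inl : F.H' 1 S.X₂ ⟶ _) a
  obtain ⟨y, hy⟩ := hex b (@Subsingleton.elim _ h1 _ _)
  have hb : b = 0 := by
    rw [← hy, @Subsingleton.elim _ h4 y 0]
    exact map_zero _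
  have := congrArg (biprod.fst : F.H' 1 S.X₂ ⊞ F.H' 1 S.X₃ ⟶ _) hb
  rwa [← ConcreteCategory.comp_apply, biprod.inl_fst, map_zero] at this

end Groth.Agent.LefLib
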